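import Cfsg.Agent.Lib.SporRecognition.F22Model.Outer.Stab
import Cfsg.Agent.Lib.SporadicB.Fi22.OPlus.Blocks

/-! Generated: stabiliser steps -/

set_option autoImplicit false
set_option maxRecDepth 100000
set_option linter.all false
set_option Elab.async false

namespace CfsgLib.SporRecognition.F22Model.Outer

open CfsgLib.SporRecognition.CosetCert

def rowF : List Nat := [12, 11, 5, 66, 1, 26, 6, 0]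
def rowFW : List Word := [[(.c, true), (.d, true), (.e, true), (.a, true), (.b, true), (.c, true), (.d, true), (.h, true), (.i, true), (.f, true), (.d, true), (.e, true), (.c, true), (.d, true), (.h, true), (.g, true), (.f, true), (.e, true), (.d, true), (.c, true), (.b, true)],
  [(.i, true), (.e, true), (.d, true), (.h, true), (.d, true), (.e, true), (.f, true), (.c, true), (.d, true), (.e, true), (.b, true), (.c, true), (.d, true), (.h, true), (.i, true), (.f, true), (.d, true), (.e, true), (.c, true), (.d, true), (.h, true), (.g, true), (.f, true), (.e, true), (.d, true), (.c, true), (.b, true)],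
  [(.h, true), (.f, true), (.b, true), (.c, true), (.d, true), (.e, true), (.a, true), (.b, true), (.c, true), (.d, true), (.h, true), (.i, true), (.e, true), (.f, true), (.c, true), (.d, true), (.e, true), (.b, true), (.c, true), (.d, true), (.h, true), (.g, true), (.f, true), (.e, true), (.d, true), (.c, true), (.b, true)],
  [(.i, true), (.b, true), (.c, true), (.d, true), (.h, true), (.d, true), (.e, true), (.f, true), (.c, true), (.d, true), (.e, true), (.b, true), (.c, true), (.d, true), (.h, true), (.i, true), (.f, true), (.d, true), (.e, true), (.b, true), (.c, true), (.d, true), (.h, true), (.g, true), (.f, true), (.e, true), (.d, true), (.c, true), (.b, true)],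
  [(.i, true), (.b, true), (.c, true), (.d, true), (.h, true), (.e, true), (.f, true), (.d, true), (.e, true), (.b, true), (.c, true), (.d, true), (.h, true), (.i, true), (.f, true), (.e, true), (.b, true), (.c, true), (.d, true), (.h, true), (.g, true), (.f, true), (.e, true), (.d, true), (.c, true), (.b, true)],
  [(.i, true), (.h, true), (.d, true), (.e, true), (.b, true), (.c, true), (.d, true), (.h, true), (.f, true), (.e, true), (.d, true), (.c, true), (.b, true)],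
  [(.i, true), (.h, true), (.f, true), (.d, true), (.e, true), (.c, true), (.d, true), (.h, true), (.i, true), (.f, true), (.d, true), (.e, true), (.b, true), (.c, true), (.d, true), (.h, true), (.g, true), (.f, true), (.e, true), (.d, true), (.c, true), (.b, true)],
  []]
def rowFB : List Nat := [0x7c7f324cd71872e57d17c1c48a7ed4,
  0x7ceaadb328e78d13a98d6365c87ed4,
  0x77db3b252a3366916654e2faf9c474,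
  0xaad9a3cb56e07fe92b9a8d711f0e32,
  0x5ffdaaaa0d14d472cfe6799cc9a492,
  0xf38bf609fd20cbabe13c243c73985f,
  0xcff4e667364948b8a3d21b87c79de1,
  0x3fff99999249c9f83fc1f87c386241]
def adjF (p x : Nat) : Bool := (rowFB.getD (rowF.idxOf p) 0).testBit x
noncomputable def dataF : SData := ⟨360, 9, CfsgLib.SporadicB.Fi22.OPlus.img, adjF, fun _ _ _ => false, rowF⟩
theorem rowF_chk : (List.range 8).all (fun r => Nat.beq (tr (rowFW.getD r []) 0) (CfsgLib.SporadicB.Fi22.OPlus.pt (rowF.getD r 0))) = true ∧ rowF.all (fun p => Nat.blt p 360) = true ∧ rowF.Nodup := by decide +kernel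
theorem adjF_0 : (List.range 360).all (fun x => adjF (rowF.getD 0 0) x == Nat.beq (tr (memWord (rowFW.getD 0 [])) (CfsgLib.SporadicB.Fi22.OPlus.pt x)) (CfsgLib.SporadicB.Fi22.OPlus.pt x)) = true := by decide +kernel
theorem adjF_1 : (List.range 360).all (fun x => adjF (rowF.getD 1 0) x == Nat.beq (tr (memWord (rowFW.getD 1 [])) (CfsgLib.SporadicB.Fi22.OPlus.pt x)) (CfsgLib.SporadicB.Fi22.OPlus.pt x)) = true := by decide +kernel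
theorem adjF_2 : (List.range 360).all (fun x => adjF (rowF.getD 2 0) x == Nat.beq (tr (memWord (rowFW.getD 2 [])) (CfsgLib.SporadicB.Fi22.OPlus.pt x)) (CfsgLib.SporadicB.Fi22.OPlus.pt x)) = true := by decide +kernel
theorem adjF_3 : (List.range 360).all (fun x => adjF (rowF.getD 3 0) x == Nat.beq (tr (memWord (rowFW.getD 3 [])) (CfsgLib.SporadicB.Fi22.OPlus.pt x)) (CfsgLib.SporadicB.Fi22.OPlus.pt x)) = true := by decide +kernel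
theorem adjF_4 : (List.range 360).all (fun x => adjF (rowF.getD 4 0) x == Nat.beq (tr (memWord (rowFW.getD 4 [])) (CfsgLib.SporadicB.Fi22.OPlus.pt x)) (CfsgLib.SporadicB.Fi22.OPlus.pt x)) = true := by decide +kernel
theorem adjF_5 : (List.range 360).all (fun x => adjF (rowF.getD 5 0) x == Nat.beq (tr (memWord (rowFW.getD 5 [])) (CfsgLib.SporadicB.Fi22.OPlus.pt x)) (CfsgLib.SporadicB.Fi22.OPlus.pt x)) = true := by decide +kernel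
theorem adjF_6 : (List.range 360).all (fun x => adjF (rowF.getD 6 0) x == Nat.beq (tr (memWord (rowFW.getD 6 [])) (CfsgLib.SporadicB.Fi22.OPlus.pt x)) (CfsgLib.SporadicB.Fi22.OPlus.pt x)) = true := by decide +kernel
theorem adjF_7 : (List.range 360).all (fun x => adjF (rowF.getD 7 0) x == Nat.beq (tr (memWord (rowFW.getD 7 [])) (CfsgLib.SporadicB.Fi22.OPlus.pt x)) (CfsgLib.SporadicB.Fi22.OPlus.pt x)) = true := by decide +kernel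
def wsF0 : List (List Nat) := [[],
  [1],
  [1, 0],
  [1, 2],
  [1, 0, 2],
  [1, 2, 3],
  [1, 0, 2, 1],
  [1, 0, 2, 3],
  [1, 2, 3, 4],
  [1, 0, 2, 1, 3],
  [1, 0, 2, 3, 4],
  [1, 2, 3, 4, 5],
  [1, 2, 3, 4, 7],
  [8, 0, 3, 8],
  [1, 0, 2, 1, 3, 4],
  [8, 4, 3, 8, 6],
  [1, 0, 2, 3, 4, 7],
  [8, 3, 4, 8],
  [1, 2, 3, 4, 5, 7],
  [8, 0, 3, 8, 4],
  [8, 0, 4, 5, 7, 8],
  [1, 8, 3, 4, 8],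
  [8, 4, 3, 8],
  [1, 8, 2, 7, 8],
  [8, 3, 4, 8, 7],
  [1, 8, 3, 2, 8],
  [8, 0, 4, 8],
  [8, 0, 3, 8, 4, 5],
  [1, 8, 3, 4, 8, 2],
  [8, 4, 3, 8, 1],
  [1, 8, 2, 3, 8, 4],
  [8, 4, 3, 8, 7],
  [8, 4, 7, 8, 3],
  [1, 8, 3, 2, 8, 6],
  [8, 7, 4, 8],
  [8, 0, 4, 8, 5],
  [8, 0, 4, 8, 7],
  [8, 1, 4, 8, 7],
  [8, 1, 4, 8, 6],
  [8, 1, 4, 8, 2],
  [1, 8, 2, 3, 8],
  [8, 1, 2, 7, 4, 8],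
  [8, 4, 7, 8],
  [8, 7, 4, 8, 6],
  [1, 8, 4, 7, 8],
  [8, 7, 4, 8, 2],
  [8, 0, 5, 8],
  [8, 1, 5, 8, 4],
  [8, 2, 5, 8, 6],
  [8, 0, 7, 8],
  [8, 1, 4, 8],
  [1, 8, 1, 4, 8, 6],
  [1, 8, 1, 4, 8, 2],
  [8, 4, 7, 8, 1],
  [8, 4, 7, 8, 6],
  [1, 8, 4, 7, 8, 0],
  [8, 4, 7, 8, 2],
  [1, 0, 8, 3, 4, 8],
  [8, 2, 1, 8, 4],
  [1, 2, 8, 4, 5, 8],
  [8, 1, 5, 8],
  [8, 2, 5, 8],
  [1, 8, 1, 4, 8],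
  [8, 0, 4, 3, 5, 8],
  [1, 8, 7, 4, 8],
  [1, 2, 8, 3, 6, 8],
  [8, 1, 2, 8, 4],
  [8, 2, 7, 8, 5],
  [8, 2, 7, 8, 1],
  [8, 2, 1, 8],
  [8, 0, 6, 8],
  [1, 8, 1, 4, 8, 5],
  [1, 0, 8, 3, 2, 8],
  [1, 8, 1, 2, 8, 4],
  [8, 1, 2, 8],
  [8, 2, 7, 8],
  [8, 2, 1, 8, 2],
  [8, 2, 1, 8, 7],
  [8, 1, 2, 8, 1],
  [1, 8, 1, 2, 8],
  [8, 1, 2, 8, 7],
  [1, 8, 2, 1, 8],
  [1, 8, 4, 5, 8, 1],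
  [8, 4, 6, 8, 1],
  [8, 2, 4, 8],
  [1, 8, 5, 4, 8],
  [1, 8, 1, 2, 8, 7],
  [1, 8, 4, 5, 8],
  [8, 4, 6, 8],
  [1, 2, 8, 2, 4, 8],
  [1, 8, 5, 4, 8, 7],
  [8, 1, 7, 8],
  [8, 3, 6, 8, 2],
  [1, 8, 2, 4, 8],
  [8, 2, 3, 8, 5],
  [8, 3, 6, 8],
  [1, 2, 8, 6, 7, 8],
  [8, 3, 2, 8],
  [8, 2, 3, 8],
  [8, 2, 6, 8, 3],
  [8, 3, 2, 8, 1],
  [8, 3, 2, 8, 6],
  [8, 2, 3, 8, 6],
  [8, 2, 6, 8],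
  [8, 2, 6, 8, 3, 5],
  [8, 1, 4, 3, 2, 8],
  [8, 2, 6, 8, 5],
  [1, 2, 8, 4, 7, 8],
  [8, 1, 3, 4, 3, 8],
  [1, 2, 8, 1, 5, 8],
  [1, 8, 2, 5, 8, 7],
  [1, 8, 2, 5, 8, 6],
  [1, 2, 8, 3, 7, 8],
  [1, 8, 2, 5, 8],
  [8, 6, 7, 8, 4],
  [8, 6, 7, 8],
  [8, 1, 3, 8],
  [8, 1, 3, 8, 2],
  [8, 5, 4, 8],
  [8, 4, 5, 8],
  [8],
  [1, 8],
  [1, 0, 8],
  [1, 2, 8],
  [1, 0, 2, 8],
  [1, 2, 3, 8],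
  [8, 0, 2],
  [1, 0, 2, 3, 8],
  [1, 0, 8, 2, 4],
  [8, 0, 2, 3, 2],
  [1, 2, 8, 3, 5],
  [8, 0, 2, 3, 6],
  [1, 8, 4, 3],
  [8, 0, 3],
  [1, 2, 8, 0, 7],
  [1, 2, 8, 2, 7],
  [1, 2, 8, 4, 6],
  [8, 3, 4],
  [8, 1, 2, 4, 5],
  [8, 0, 3, 4, 3],
  [8, 0, 4, 5, 7],
  [1, 8, 3, 4],
  [8, 4, 3],
  [1, 8, 2, 7],
  [8, 0, 2, 1, 7],
  [1, 8, 3, 2],
  [8, 0, 4],
  [8, 1, 2, 4, 7],
  [8, 1, 4, 5, 4],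
  [8, 0, 2, 5, 4],
  [8, 0, 5, 4, 7],
  [1, 8, 1, 4, 5, 7],
  [1, 0, 2, 8, 3, 4],
  [1, 0, 2, 8, 0, 3],
  [8, 7, 4],
  [8, 0, 4, 5, 4],
  [1, 2, 8, 0, 5],
  [8, 0, 2, 4, 5],
  [8, 0, 4, 5, 6],
  [1, 8, 4, 3, 2, 5],
  [1, 8, 2, 3],
  [8, 1, 2, 7, 4],
  [8, 4, 7],
  [1, 2, 8, 0, 3],
  [1, 8, 4, 7],
  [1, 2, 8, 3, 2],
  [8, 0, 5],
  [1, 8, 1, 4, 3, 2],
  [1, 2, 8, 2, 6],
  [8, 0, 7],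
  [8, 1, 4],
  [8, 0, 4, 6, 5],
  [8, 0, 5, 4, 3],
  [1, 2, 8, 2, 3],
  [8, 0, 2, 7, 4],
  [8, 0, 2, 1, 3],
  [1, 2, 8, 1, 7],
  [1, 0, 8, 3, 4],
  [8, 1, 5, 4, 3],
  [1, 2, 8, 4, 5],
  [8, 1, 5],
  [8, 2, 5],
  [1, 8, 1, 4],
  [8, 0, 4, 3, 5],
  [1, 8, 7, 4],
  [1, 2, 8, 3, 6],
  [1, 0, 8, 2, 3],
  [1, 0, 8, 4, 3],
  [8, 2, 1, 3, 6],
  [8, 2, 1],
  [8, 0, 6],
  [8, 1, 4, 5, 6],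
  [1, 0, 8, 3, 2],
  [8, 1, 4, 5, 7],
  [8, 1, 2],
  [8, 2, 7],
  [1, 2, 8, 2, 1],
  [8, 2, 3, 6, 7],
  [1, 2, 8, 1, 2],
  [1, 8, 1, 2],
  [8, 1, 7, 4, 3],
  [1, 8, 2, 1],
  [8, 1, 4, 3, 7],
  [1, 0, 8, 4, 5],
  [8, 2, 4],
  [1, 8, 5, 4],
  [8, 0, 4, 3, 7],
  [1, 8, 4, 5],
  [8, 4, 6],
  [1, 2, 8, 2, 4],
  [8, 0, 7, 4, 3],
  [8, 1, 7],
  [8, 0, 4, 3, 2],
  [1, 8, 2, 4],
  [8, 1, 4, 3, 5],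
  [8, 3, 6],
  [1, 2, 8, 6, 7],
  [8, 3, 2],
  [8, 2, 3],
  [8, 0, 2, 3, 4],
  [1, 0, 8, 4, 7],
  [8, 0, 4, 3, 6],
  [1, 2, 8, 7, 4],
  [8, 2, 6],
  [8, 6, 7, 4, 3],
  [8, 1, 4, 3, 2],
  [1, 2, 8, 0, 6],
  [1, 2, 8, 4, 7],
  [8, 1, 3, 4, 3],
  [1, 2, 8, 1, 5],
  [8, 0, 2, 3, 7],
  [8, 0, 2, 1, 6],
  [1, 2, 8, 3, 7],
  [1, 8, 2, 5],
  [1, 2, 8, 1, 6],
  [8, 6, 7],
  [8, 1, 3],
  [1, 8, 1, 4, 3, 7],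
  [8, 5, 4],
  [8, 4, 5],
  [8, 0],
  [8, 1],
  [1, 8, 1],
  [1, 2, 8, 0],
  [1, 0, 2, 8, 0],
  [1, 2, 3, 8, 0],
  [8, 2],
  [1, 0, 2, 3, 8, 0],
  [1, 8, 1, 2, 4],
  [8, 2, 3, 2],
  [1, 2, 8, 0, 3, 5],
  [8, 2, 3, 6],
  [8, 1, 4, 3],
  [8, 3],
  [1, 2, 8, 7],
  [8, 2, 1, 7],
  [8, 2, 3, 5],
  [8, 0, 3, 4],
  [1, 8, 2, 4, 5],
  [8, 3, 4, 3],
  [8, 4, 5, 7],
  [8, 1, 3, 4],
  [8, 0, 4, 3],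
  [8, 1, 2, 7],
  [1, 8, 3, 2, 4],
  [8, 1, 3, 2],
  [8, 4],
  [1, 2, 3, 8, 6],
  [1, 8, 4, 5, 4],
  [8, 2, 5, 4],
  [8, 5, 4, 7],
  [1, 0, 8, 4, 5, 7],
  [8, 1, 3, 2, 8],
  [1, 0, 2, 8, 3],
  [8, 0, 7, 4],
  [8, 4, 5, 4],
  [1, 2, 8, 5],
  [8, 2, 4, 5],
  [8, 4, 5, 6],
  [1, 0, 2, 3, 8, 7],
  [1, 2, 8, 4],
  [1, 8, 2, 7, 4],
  [8, 0, 4, 7],
  [1, 2, 8, 3],
  [8, 1, 4, 7],
  [8, 4, 6, 7],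
  [8, 5],
  [1, 0, 8, 4, 3, 2],
  [8, 2, 1, 6],
  [8, 7],
  [1, 8, 4],
  [8, 4, 6, 5],
  [8, 5, 4, 3],
  [8, 2, 1, 3],
  [8, 2, 7, 4],
  [8, 1, 4, 7, 8],
  [1, 8, 2, 1, 7],
  [8, 6, 7, 4],
  [1, 8, 5, 4, 3],
  [1, 8, 2, 3, 5],
  [1, 8, 5],
  [8, 0, 2, 5],
  [1, 0, 8, 4],
  [8, 4, 3, 5],
  [8, 1, 7, 4],
  [8, 2, 4, 7],
  [1, 8, 1, 2, 3],
  [1, 8, 1, 4, 3],
  [1, 0, 2, 3, 8, 4],
  [1, 2, 8, 2],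
  [8, 6],
  [1, 8, 4, 5, 6],
  [8, 2, 6, 7],
  [1, 8, 4, 5, 7],
  [1, 8, 2],
  [8, 0, 2, 7],
  [8, 0, 2, 1],
  [1, 0, 2, 3, 8, 1],
  [1, 8, 1, 2, 1],
  [1, 0, 8, 2],
  [1, 8, 7, 4, 3],
  [1, 2, 8, 1],
  [1, 8, 4, 3, 7],
  [1, 8, 1, 4, 5],
  [8, 0, 2, 4],
  [8, 1, 5, 4],
  [8, 4, 3, 7],
  [8, 1, 4, 5],
  [8, 0, 4, 6],
  [8, 2, 1, 4],
  [8, 7, 4, 3],
  [1, 8, 7],
  [8, 4, 3, 2],
  [8, 1, 2, 4],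
  [1, 8, 4, 3, 5],
  [1, 0, 8, 7],
  [8, 2, 4, 3],
  [8, 0, 3, 2],
  [8, 0, 2, 3],
  [8, 2, 3, 4],
  [1, 8, 1, 4, 7],
  [8, 4, 3, 6],
  [1, 8, 3, 4, 5],
  [8, 0, 2, 6],
  [1, 0, 2, 3, 8, 5],
  [1, 8, 4, 3, 2],
  [1, 2, 8, 6],
  [1, 8, 2, 3, 7],
  [1, 8, 3, 4, 3],
  [1, 0, 2, 8, 6],
  [8, 2, 3, 7],
  [1, 2, 8, 1, 2, 5],
  [8, 2, 4, 6],
  [8, 1, 2, 5],
  [8, 2, 1, 5],
  [1, 0, 8, 3],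
  [1, 8, 3],
  [1, 0, 8, 4, 3, 7],
  [8, 0, 5, 4],
  [8, 0, 4, 5]]
def wsF1 : List (List Nat) := [[],
  [],
  [],
  [],
  [],
  [],
  [],
  [],
  [],
  [3],
  [],
  [],
  [],
  [8, 0, 3, 2, 8, 3, 2, 0, 8],
  [3, 4],
  [],
  [],
  [],
  [],
  [8, 5, 4, 7, 8, 7, 4, 5, 8],
  [3, 8, 0, 7, 8, 4, 7, 8, 4, 0, 8],
  [3, 1, 0, 2, 8, 0, 7, 4, 3, 8, 1],
  [],
  [],
  [],
  [],
  [3, 1, 8, 4, 7, 8, 5, 6, 8, 2, 3, 8, 1],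
  [3, 1, 8, 3, 4, 8, 1, 7, 4, 3, 2, 0, 1],
  [3, 1, 8, 2, 3, 8, 4, 5, 8, 4, 3, 8, 1],
  [1, 8, 3, 2, 4, 0, 7, 1, 2, 0, 8, 8, 2, 1, 3, 2, 4, 5, 4, 0, 8],
  [8, 4, 3, 5, 6, 7, 5, 4, 1, 8],
  [],
  [],
  [],
  [],
  [3, 1, 0, 2, 3, 8, 7, 4, 7, 6, 3, 2, 8],
  [8, 2, 1, 3, 2, 4, 5, 4, 0, 8, 1, 0, 2, 8, 0, 7, 4, 3, 8, 1],
  [1, 8, 3, 4, 8, 1, 7, 4, 3, 2, 0, 1, 8, 2, 3, 6, 7, 4, 7, 8, 3, 2, 0, 1],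
  [1, 8, 3, 4, 8, 1, 7, 4, 3, 2, 0, 1],
  [1, 8, 3, 2, 4, 0, 7, 1, 2, 0, 8, 1, 8, 4, 7, 8, 5, 6, 8, 2, 3, 8, 1],
  [8, 2, 1, 3, 2, 4, 5, 4, 0, 8, 1, 8, 3, 2, 4, 0, 7, 1, 2, 0, 8],
  [],
  [],
  [],
  [],
  [],
  [1, 8, 3, 2, 4, 0, 7, 1, 2, 0, 8, 1, 0, 2, 3, 8, 7, 4, 7, 6, 3, 2, 8],
  [1, 8, 7, 4, 8, 2, 5, 8, 4, 1, 8, 1],
  [1, 0, 2, 3, 8, 7, 4, 7, 6, 3, 2, 8, 1, 0, 2, 3, 8, 7, 4, 7, 6, 3, 2, 8],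
  [1, 2, 8, 1, 6, 8, 4, 8, 7, 6, 8],
  [1, 8, 1, 4, 8, 2, 8, 3, 4, 5, 0, 8],
  [1, 0, 2, 3, 8, 7, 4, 7, 6, 3, 2, 8, 8, 2, 1, 3, 2, 4, 5, 4, 0, 8],
  [1, 8, 3, 4, 8, 1, 7, 4, 3, 2, 0, 1, 1, 0, 2, 3, 8, 2, 6, 5, 4, 8],
  [1, 0, 2, 3, 8, 7, 4, 7, 6, 3, 2, 8, 1, 8, 3, 4, 8, 1, 7, 4, 3, 2, 0, 1],
  [],
  [],
  [],
  [],
  [],
  [8, 2, 3, 8, 6, 8, 4, 7, 8, 2, 1, 8, 4, 3, 5, 6, 7, 5, 4, 1, 8],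
  [1, 0, 2, 3, 8, 7, 4, 7, 6, 3, 2, 8, 1, 8, 4, 7, 8, 5, 6, 8, 2, 3, 8, 1],
  [1, 8, 3, 4, 8, 1, 7, 4, 3, 2, 0, 1, 1, 0, 2, 3, 8, 7, 4, 7, 6, 3, 2, 8],
  [1, 0, 2, 3, 8, 7, 4, 7, 6, 3, 2, 8, 5],
  [3, 8, 2, 3, 8, 6, 8, 4, 7, 8, 2, 1],
  [1, 0, 2, 3, 8, 7, 4, 7, 6, 3, 2, 8, 2],
  [],
  [],
  [3, 1, 2, 8, 4, 7, 8, 2, 8, 2, 3, 4, 1, 8],
  [],
  [],
  [8, 0, 7, 8, 4, 7, 8, 4, 0, 8],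
  [1, 0, 2, 3, 8, 7, 4, 7, 6, 3, 2, 8],
  [1, 2, 8, 7, 4, 5, 4, 3, 1, 8, 8, 4, 3, 5, 6, 7, 5, 4, 1, 8],
  [],
  [],
  [1, 8, 3, 4, 8, 1, 7, 4, 3, 2, 0, 1, 8, 2, 1, 3, 2, 4, 5, 4, 0, 8],
  [],
  [],
  [8, 2, 3, 8, 6, 8, 4, 7, 8, 2, 1],
  [],
  [],
  [1, 8, 2, 1, 0, 1, 8, 2, 1],
  [],
  [],
  [1, 0, 2, 8, 0, 7, 4, 3, 8, 1],
  [],
  [],
  [8, 2, 7, 8, 5, 8, 3, 4, 8, 0, 1],
  [1, 8, 3, 4, 8, 1, 7, 4, 3, 2, 0, 1, 1, 2, 8, 1, 6, 8, 4, 8, 7, 6, 8],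
  [],
  [],
  [8, 2, 1, 3, 2, 4, 5, 4, 0, 8],
  [1, 2, 8, 7, 4, 5, 4, 3, 1, 8],
  [],
  [],
  [8, 2, 1, 3, 2, 4, 5, 4, 0, 8, 7],
  [1, 8, 3, 2, 4, 0, 7, 1, 2, 0, 8, 1, 8, 3, 2, 4, 0, 7, 1, 2, 0, 8],
  [],
  [],
  [1, 8, 3, 4, 8, 1, 7, 4, 3, 2, 0, 1, 8, 1, 2, 8, 6, 8, 2, 1, 8],
  [8, 2, 1, 3, 2, 4, 5, 4, 0, 8, 1, 0, 2, 8, 5, 6, 1, 2, 8],
  [],
  [],
  [1, 0, 2, 3, 8, 7, 4, 7, 6, 3, 2, 8, 1, 8, 7, 4, 8, 2, 5, 8, 4, 1, 8, 1],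
  [8, 2, 3, 6, 7, 4, 7, 8, 3, 2, 0, 1],
  [1, 8, 3, 2, 4, 0, 7, 1, 2, 0, 8],
  [1, 0, 2, 8, 0, 7, 4, 3, 8, 1, 8, 2, 3, 8, 6, 8, 4, 7, 8, 2, 1],
  [1, 8, 2, 3, 8, 4, 5, 8, 4, 3, 8, 1],
  [1, 8, 3, 4, 8, 1, 7, 4, 3, 2, 0, 1, 8, 2, 3, 8, 6, 8, 4, 7, 8, 2, 1],
  [1, 0, 2, 3, 8, 7, 4, 7, 6, 3, 2, 8, 1, 2, 8, 7, 4, 5, 4, 3, 1, 8],
  [1, 0, 2, 3, 8, 7, 4, 7, 6, 3, 2, 8, 1, 2, 8, 4, 7, 8, 2, 8, 2, 3, 4, 1, 8],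
  [1, 2, 8, 7, 4, 5, 4, 3, 1, 8, 1, 2, 8, 4, 7, 8, 2, 8, 2, 3, 4, 1, 8],
  [1, 8, 3, 4, 8, 1, 7, 4, 3, 2, 0, 1, 1, 8, 4, 7, 8, 5, 6, 8, 2, 3, 8, 1],
  [1, 2, 8, 4, 7, 8, 2, 8, 2, 3, 4, 1, 8],
  [1, 8, 4, 7, 8, 5, 6, 8, 2, 3, 8, 1],
  [1, 8, 3, 4, 8, 1, 7, 4, 3, 2, 0, 1, 8, 0, 3, 2, 8, 3, 2, 0, 8],
  [1, 0, 2, 3, 8, 7, 4, 7, 6, 3, 2, 8, 8, 2, 7, 8, 5, 8, 3, 4, 8, 0, 1],
  [1, 0, 2, 3, 8, 7, 4, 7, 6, 3, 2, 8, 8, 2, 3, 8, 6, 8, 4, 7, 8, 2, 1],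
  [],
  [],
  [],
  [],
  [],
  [],
  [],
  [],
  [],
  [],
  [],
  [],
  [],
  [],
  [],
  [],
  [],
  [],
  [],
  [],
  [],
  [],
  [],
  [],
  [],
  [],
  [],
  [],
  [],
  [],
  [],
  [],
  [],
  [],
  [],
  [],
  [],
  [],
  [],
  [],
  [],
  [],
  [],
  [],
  [],
  [],
  [],
  [],
  [],
  [],
  [],
  [],
  [],
  [],
  [],
  [],
  [],
  [],
  [],
  [],
  [],
  [],
  [],
  [],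
  [],
  [],
  [],
  [],
  [],
  [],
  [],
  [],
  [],
  [],
  [],
  [],
  [],
  [],
  [],
  [],
  [],
  [],
  [],
  [],
  [],
  [],
  [],
  [],
  [],
  [],
  [],
  [],
  [],
  [],
  [],
  [],
  [],
  [],
  [],
  [],
  [],
  [],
  [],
  [],
  [],
  [],
  [],
  [],
  [],
  [],
  [],
  [],
  [],
  [],
  [],
  [],
  [],
  [],
  [],
  [],
  [],
  [],
  [],
  [],
  [],
  [],
  [],
  [],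
  [],
  [],
  [],
  [],
  [],
  [],
  [],
  [],
  [],
  [],
  [],
  [],
  [],
  [],
  [],
  [],
  [],
  [],
  [],
  [],
  [],
  [],
  [],
  [],
  [],
  [],
  [],
  [],
  [],
  [],
  [],
  [],
  [],
  [],
  [],
  [],
  [],
  [],
  [],
  [],
  [],
  [],
  [],
  [],
  [],
  [],
  [],
  [],
  [],
  [],
  [],
  [],
  [],
  [],
  [],
  [],
  [],
  [],
  [],
  [],
  [],
  [],
  [],
  [],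
  [],
  [],
  [],
  [],
  [],
  [],
  [],
  [],
  [],
  [],
  [],
  [],
  [],
  [],
  [],
  [],
  [],
  [],
  [],
  [],
  [],
  [],
  [],
  [],
  [],
  [],
  [],
  [],
  [],
  [],
  [],
  [],
  [],
  [],
  [],
  [],
  [],
  [],
  [],
  [],
  [],
  [],
  [],
  [],
  [],
  [],
  [],
  [],
  [],
  []]
def wsF2 : List (List Nat) := [[],
  [],
  [],
  [],
  [],
  [],
  [],
  [],
  [],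
  [],
  [],
  [],
  [],
  [],
  [],
  [],
  [],
  [],
  [],
  [],
  [],
  [],
  [],
  [],
  [],
  [],
  [],
  [],
  [],
  [],
  [],
  [],
  [],
  [],
  [],
  [5],
  [7],
  [],
  [],
  [],
  [],
  [],
  [],
  [],
  [],
  [],
  [5, 4],
  [1, 0, 2, 3, 8, 7, 4, 7, 6, 3, 2, 8, 1, 8, 7, 4, 8, 2, 5, 8, 4, 1, 8, 1, 1, 0, 2, 3, 8, 0, 3, 4, 7, 2, 1, 8, 1, 8, 1, 4, 8, 5, 2, 8, 4, 7, 8, 1, 8, 2, 3, 6, 7, 4, 7, 8, 3, 2, 0, 1],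
  [1, 8, 2, 1, 0, 1, 8, 2, 1, 1, 0, 2, 3, 8, 7, 4, 7, 6, 3, 2, 8, 8, 0, 4, 8, 7, 4, 8, 7, 0, 8, 3],
  [3, 8, 2, 3, 8, 6, 8, 4, 7, 8, 2, 1, 1, 8, 2, 3, 8, 4, 5, 8, 4, 3, 8, 1, 8, 0, 4, 8, 7, 4, 8, 7, 0, 8, 3],
  [],
  [],
  [],
  [3, 1, 8, 4, 7, 8, 5, 6, 8, 2, 3, 8, 1, 3, 8, 5, 4, 7, 8, 7, 4, 5, 8],
  [],
  [],
  [],
  [],
  [],
  [1, 0, 2, 3, 8, 7, 4, 7, 6, 3, 2, 8, 5, 1, 0, 2, 8, 0, 7, 4, 3, 8, 1, 8, 0, 2, 1, 7, 0, 4, 2, 3, 8, 1, 8, 0, 4, 5, 4, 2, 3, 1, 2, 8],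
  [7, 3, 1, 0, 2, 3, 8, 7, 4, 7, 6, 3, 2, 8, 1, 8, 2, 1, 0, 1, 8, 2, 1, 2, 8, 2, 3, 6, 7, 4, 7, 8, 3, 2, 0, 1],
  [5, 1, 8, 3, 4, 8, 1, 7, 4, 3, 2, 0, 1, 3, 8, 2, 3, 6, 7, 4, 7, 8, 3, 2, 0, 1, 8, 2, 3, 6, 7, 4, 7, 8, 3, 2, 0, 1],
  [],
  [1, 8, 3, 4, 8, 1, 7, 4, 3, 2, 0, 1, 8, 2, 3, 8, 6, 8, 4, 7, 8, 2, 1, 8, 2, 7, 8, 5, 8, 3, 4, 8, 0, 1, 1, 0, 2, 3, 8, 7, 4, 7, 6, 3, 2, 8],
  [],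
  [],
  [],
  [1, 8, 3, 2, 4, 0, 7, 1, 2, 0, 8, 8, 0, 3, 2, 8, 3, 2, 0, 8, 8, 0, 5, 4, 3, 8, 2, 8, 4, 1, 8, 1],
  [],
  [],
  [3, 8, 2, 3, 8, 6, 8, 4, 7, 8, 2, 1, 1, 8, 1, 4, 8, 2, 8, 3, 4, 5, 0, 8, 8, 0, 4, 5, 4, 2, 3, 1, 2, 8, 8, 0, 2, 1, 7, 0, 4, 2, 3, 8, 1],
  [],
  [5, 1, 0, 2, 3, 8, 7, 4, 7, 6, 3, 2, 8, 2, 8, 2, 3, 8, 6, 8, 4, 7, 8, 2, 1, 7, 8, 0, 4, 5, 4, 2, 3, 1, 2, 8],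
  [],
  [],
  [3, 1, 0, 2, 3, 8, 7, 4, 7, 6, 3, 2, 8, 1, 8, 2, 1, 0, 1, 8, 2, 1, 2, 8, 2, 3, 6, 7, 4, 7, 8, 3, 2, 0, 1],
  [],
  [],
  [5, 3, 1, 8, 4, 7, 8, 5, 6, 8, 2, 3, 8, 1, 3, 8, 5, 4, 7, 8, 7, 4, 5, 8],
  [],
  [],
  [3, 1, 2, 8, 4, 7, 8, 2, 8, 2, 3, 4, 1, 8, 1, 8, 2, 3, 8, 4, 5, 8, 4, 3, 8, 1, 1, 8, 3, 2, 8, 6, 5, 8, 7, 4, 8, 1, 3],
  [],
  [],
  [1, 8, 3, 4, 8, 1, 7, 4, 3, 2, 0, 1, 3, 8, 2, 3, 6, 7, 4, 7, 8, 3, 2, 0, 1, 8, 2, 3, 6, 7, 4, 7, 8, 3, 2, 0, 1],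
  [],
  [],
  [],
  [5, 3, 1, 2, 8, 4, 7, 8, 2, 8, 2, 3, 4, 1, 8, 1, 8, 2, 3, 8, 4, 5, 8, 4, 3, 8, 1, 1, 8, 3, 2, 8, 6, 5, 8, 7, 4, 8, 1, 3],
  [],
  [],
  [],
  [],
  [],
  [],
  [],
  [],
  [],
  [],
  [],
  [],
  [],
  [],
  [1, 8, 3, 2, 4, 0, 7, 1, 2, 0, 8, 1, 8, 4, 7, 8, 5, 6, 8, 2, 3, 8, 1, 1, 2, 8, 7, 4, 5, 4, 3, 1, 8, 8, 6, 7, 8, 4, 8, 6, 1, 8, 2, 1],
  [],
  [],
  [1, 0, 2, 3, 8, 7, 4, 7, 6, 3, 2, 8, 2, 8, 2, 3, 8, 6, 8, 4, 7, 8, 2, 1, 7, 8, 0, 4, 5, 4, 2, 3, 1, 2, 8],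
  [],
  [1, 0, 2, 8, 0, 7, 4, 3, 8, 1, 8, 2, 3, 8, 6, 8, 4, 7, 8, 2, 1, 1, 8, 7, 4, 8, 2, 5, 8, 4, 1, 8, 1, 1, 8, 3, 2, 8, 6, 5, 8, 7, 4, 8, 1, 8, 0, 2, 1, 7, 0, 4, 2, 3, 8, 1],
  [1, 8, 2, 1, 0, 1, 8, 2, 1, 1, 0, 2, 3, 8, 7, 4, 7, 6, 3, 2, 8, 8, 0, 4, 8, 7, 4, 8, 7, 0, 8, 3, 3, 8, 2, 3, 8, 6, 8, 4, 7, 8, 2, 1, 1, 8, 2, 3, 8, 4, 5, 8, 4, 3, 8, 1, 8, 0, 4, 8, 7, 4, 8, 7, 0, 8, 3],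
  [5, 3, 8, 2, 3, 8, 6, 8, 4, 7, 8, 2, 1, 1, 8, 2, 3, 8, 4, 5, 8, 4, 3, 8, 1, 8, 0, 4, 8, 7, 4, 8, 7, 0, 8, 3],
  [5, 1, 0, 2, 8, 0, 7, 4, 3, 8, 1, 8, 2, 3, 8, 6, 8, 4, 7, 8, 2, 1, 1, 8, 7, 4, 8, 2, 5, 8, 4, 1, 8, 1, 1, 8, 3, 2, 8, 6, 5, 8, 7, 4, 8, 1, 8, 0, 2, 1, 7, 0, 4, 2, 3, 8, 1],
  [7, 1, 0, 2, 8, 0, 7, 4, 3, 8, 1, 8, 2, 3, 8, 6, 8, 4, 7, 8, 2, 1, 1, 8, 7, 4, 8, 2, 5, 8, 4, 1, 8, 1, 1, 8, 3, 2, 8, 6, 5, 8, 7, 4, 8, 1, 8, 0, 2, 1, 7, 0, 4, 2, 3, 8, 1],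
  [1, 8, 2, 1, 0, 1, 8, 2, 1, 1, 0, 2, 3, 8, 7, 4, 7, 6, 3, 2, 8, 8, 0, 4, 8, 7, 4, 8, 7, 0, 8, 3, 8, 2, 1, 3, 2, 4, 5, 4, 0, 8, 2, 1, 0, 8, 4, 3, 8, 5, 8, 7, 2, 8],
  [1, 8, 3, 4, 8, 1, 7, 4, 3, 2, 0, 1, 5, 1, 8, 3, 4, 8, 5, 4, 8, 3, 2, 8, 1, 3],
  [1, 8, 2, 1, 0, 1, 8, 2, 1, 8, 2, 3, 6, 7, 4, 7, 8, 3, 2, 0, 1, 1, 8, 3, 4, 7, 0, 8, 2, 0, 1, 8, 0, 4, 5, 4, 2, 3, 1, 2, 8],
  [],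
  [],
  [],
  [],
  [],
  [],
  [],
  [],
  [],
  [],
  [],
  [],
  [],
  [],
  [],
  [],
  [],
  [],
  [],
  [],
  [],
  [],
  [],
  [],
  [],
  [],
  [],
  [],
  [],
  [],
  [],
  [],
  [],
  [],
  [],
  [],
  [],
  [],
  [],
  [],
  [],
  [],
  [],
  [],
  [],
  [],
  [],
  [],
  [],
  [],
  [],
  [],
  [],
  [],
  [],
  [],
  [],
  [],
  [],
  [],
  [],
  [],
  [],
  [],
  [],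
  [],
  [],
  [],
  [],
  [],
  [],
  [],
  [],
  [],
  [],
  [],
  [],
  [],
  [],
  [],
  [],
  [],
  [],
  [],
  [],
  [],
  [],
  [],
  [],
  [],
  [],
  [],
  [],
  [],
  [],
  [],
  [],
  [],
  [],
  [],
  [],
  [],
  [],
  [],
  [],
  [],
  [],
  [],
  [],
  [],
  [],
  [],
  [],
  [],
  [],
  [],
  [],
  [],
  [],
  [],
  [],
  [],
  [],
  [],
  [],
  [],
  [],
  [],
  [],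
  [],
  [],
  [],
  [],
  [],
  [],
  [],
  [],
  [],
  [],
  [],
  [],
  [],
  [],
  [],
  [],
  [],
  [],
  [],
  [],
  [],
  [],
  [],
  [],
  [],
  [],
  [],
  [],
  [],
  [],
  [],
  [],
  [],
  [],
  [],
  [],
  [],
  [],
  [],
  [],
  [],
  [],
  [],
  [],
  [],
  [],
  [],
  [],
  [],
  [],
  [],
  [],
  [],
  [],
  [],
  [],
  [],
  [],
  [],
  [],
  [],
  [],
  [],
  [],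
  [],
  [],
  [],
  [],
  [],
  [],
  [],
  [],
  [],
  [],
  [],
  [],
  [],
  [],
  [],
  [],
  [],
  [],
  [],
  [],
  [],
  [],
  [],
  [],
  [],
  [],
  [],
  [],
  [],
  [],
  [],
  [],
  [],
  [],
  [],
  [],
  [],
  [],
  [],
  [],
  [],
  [],
  [],
  [],
  [],
  [],
  [],
  [],
  [],
  [],
  []]
def wsF3 : List (List Nat) := [[],
  [],
  [0],
  [2],
  [3, 8, 2, 3, 8, 6, 8, 4, 7, 8, 2, 1, 1, 8, 1, 4, 8, 2, 8, 3, 4, 5, 0, 8, 8, 0, 4, 5, 4, 2, 3, 1, 2, 8, 8, 0, 2, 1, 7, 0, 4, 2, 3, 8, 1, 1, 8, 3, 2, 4, 0, 7, 1, 2, 0, 8, 8, 0, 3, 2, 8, 3, 2, 0, 8, 8, 0, 5, 4, 3, 8, 2, 8, 4, 1, 8, 1, 7],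
  [],
  [],
  [],
  [],
  [],
  [],
  [],
  [],
  [],
  [],
  [],
  [],
  [],
  [],
  [],
  [],
  [],
  [],
  [],
  [],
  [],
  [],
  [],
  [],
  [],
  [],
  [],
  [],
  [],
  [0, 1, 0, 2, 8, 0, 7, 4, 3, 8, 1, 8, 2, 3, 8, 6, 8, 4, 7, 8, 2, 1, 1, 8, 7, 4, 8, 2, 5, 8, 4, 1, 8, 1, 1, 8, 3, 2, 8, 6, 5, 8, 7, 4, 8, 1, 8, 0, 2, 1, 7, 0, 4, 2, 3, 8, 1, 1, 0, 2, 3, 8, 7, 4, 7, 6, 3, 2, 8, 5, 1, 0, 2, 8, 0, 7, 4, 3, 8, 1, 8, 0, 2, 1, 7, 0, 4, 2, 3, 8, 1, 8, 0, 4, 5, 4, 2, 3, 1, 2, 8, 1, 0, 2, 3, 8, 7, 4, 7, 6, 3, 2, 8, 2, 1, 2, 8, 1, 0, 1, 2, 8, 1, 8, 2, 3, 6, 7, 4, 7, 8, 3, 2, 0, 1, 3],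
  [],
  [],
  [],
  [],
  [],
  [],
  [],
  [1, 0, 2, 8, 0, 7, 4, 3, 8, 1, 8, 2, 3, 8, 6, 8, 4, 7, 8, 2, 1, 1, 8, 7, 4, 8, 2, 5, 8, 4, 1, 8, 1, 1, 8, 3, 2, 8, 6, 5, 8, 7, 4, 8, 1, 8, 0, 2, 1, 7, 0, 4, 2, 3, 8, 1, 1, 0, 2, 3, 8, 7, 4, 7, 6, 3, 2, 8, 5, 1, 0, 2, 8, 0, 7, 4, 3, 8, 1, 8, 0, 2, 1, 7, 0, 4, 2, 3, 8, 1, 8, 0, 4, 5, 4, 2, 3, 1, 2, 8, 1, 0, 2, 3, 8, 7, 4, 7, 6, 3, 2, 8, 2, 1, 2, 8, 1, 0, 1, 2, 8, 1, 8, 2, 3, 6, 7, 4, 7, 8, 3, 2, 0, 1, 3],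
  [1, 8, 3, 4, 8, 1, 7, 4, 3, 2, 0, 1, 8, 2, 3, 8, 6, 8, 4, 7, 8, 2, 1, 8, 2, 7, 8, 5, 8, 3, 4, 8, 0, 1, 1, 0, 2, 3, 8, 7, 4, 7, 6, 3, 2, 8, 1, 8, 2, 1, 0, 1, 8, 2, 1, 8, 2, 3, 6, 7, 4, 7, 8, 3, 2, 0, 1, 1, 8, 3, 4, 7, 0, 8, 2, 0, 1, 8, 0, 4, 5, 4, 2, 3, 1, 2, 8, 3, 8, 0, 7, 8, 4, 7, 8, 4, 0, 8, 1, 8, 3, 4, 8, 5, 4, 8, 3, 2, 8, 1, 1, 2, 8, 7, 4, 8, 6, 8, 3, 2, 8, 3, 3, 8, 0, 7, 8, 4, 7, 8, 4, 0, 8, 8, 2, 3, 6, 7, 4, 7, 8, 3, 2, 0, 1, 1, 2, 8, 1, 0, 1, 2, 8, 1],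
  [],
  [7, 4, 3, 8, 0, 7, 8, 4, 7, 8, 4, 0, 8, 1, 8, 3, 4, 8, 5, 4, 8, 3, 2, 8, 1, 1, 2, 8, 7, 4, 8, 6, 8, 3, 2, 8, 3],
  [],
  [],
  [],
  [],
  [],
  [],
  [],
  [],
  [5, 1, 0, 2, 3, 8, 7, 4, 7, 6, 3, 2, 8, 2, 8, 2, 3, 8, 6, 8, 4, 7, 8, 2, 1, 7, 8, 0, 4, 5, 4, 2, 3, 1, 2, 8, 3, 1, 0, 2, 3, 8, 7, 4, 7, 6, 3, 2, 8, 1, 8, 2, 1, 0, 1, 8, 2, 1, 2, 8, 2, 3, 6, 7, 4, 7, 8, 3, 2, 0, 1, 4, 5],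
  [],
  [0, 7, 4, 3, 8, 0, 7, 8, 4, 7, 8, 4, 0, 8, 1, 8, 3, 4, 8, 5, 4, 8, 3, 2, 8, 1, 1, 2, 8, 7, 4, 8, 6, 8, 3, 2, 8, 3],
  [3, 1, 8, 4, 7, 8, 5, 6, 8, 2, 3, 8, 1, 1, 0, 2, 3, 8, 0, 3, 4, 7, 2, 1, 8, 1, 8, 3, 4, 7, 0, 8, 2, 0, 1, 8, 0, 4, 5, 4, 2, 3, 1, 2, 8, 3, 1, 8, 4, 7, 8, 5, 6, 8, 2, 3, 8, 1, 1, 8, 3, 4, 8, 5, 4, 8, 3, 2, 8, 1, 8, 1, 4, 3, 2, 8, 2, 8, 7, 4, 8, 2, 1, 3],
  [],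
  [],
  [],
  [],
  [],
  [],
  [],
  [1, 8, 3, 2, 4, 0, 7, 1, 2, 0, 8, 1, 8, 4, 7, 8, 5, 6, 8, 2, 3, 8, 1, 1, 2, 8, 7, 4, 5, 4, 3, 1, 8, 8, 6, 7, 8, 4, 8, 6, 1, 8, 2, 1, 1, 8, 3, 4, 8, 1, 7, 4, 3, 2, 0, 1, 1, 8, 4, 7, 8, 5, 6, 8, 2, 3, 8, 1, 8, 0, 3, 2, 8, 3, 2, 0, 8, 8, 0, 4, 8, 7, 4, 8, 7, 0, 8, 8, 2, 7, 8, 5, 8, 3, 4, 8, 0, 1, 2, 8, 0, 4, 5, 4, 2, 3, 1, 2, 8, 3, 8, 0, 7, 8, 4, 7, 8, 4, 0, 8, 8, 2, 3, 6, 7, 4, 7, 8, 3, 2, 0, 1, 1, 2, 8, 1, 0, 1, 2, 8, 1],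
  [],
  [],
  [],
  [],
  [],
  [],
  [],
  [],
  [],
  [],
  [],
  [5, 3, 1, 8, 4, 7, 8, 5, 6, 8, 2, 3, 8, 1, 3, 8, 5, 4, 7, 8, 7, 4, 5, 8, 1, 0, 2, 3, 8, 7, 4, 7, 6, 3, 2, 8, 5, 1, 0, 2, 8, 0, 7, 4, 3, 8, 1, 8, 0, 2, 1, 7, 0, 4, 2, 3, 8, 1, 8, 0, 4, 5, 4, 2, 3, 1, 2, 8, 8, 2, 3, 6, 7, 4, 7, 8, 3, 2, 0, 1, 1, 0, 8, 4, 3, 8, 5, 8, 7, 2, 8, 1, 2, 8, 7, 4, 8, 6, 8, 3, 2, 8, 1, 0, 2, 3, 4, 7, 1, 8, 4, 3, 8, 1],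
  [],
  [],
  [0, 5, 3, 1, 8, 4, 7, 8, 5, 6, 8, 2, 3, 8, 1, 3, 8, 5, 4, 7, 8, 7, 4, 5, 8, 1, 0, 2, 3, 8, 7, 4, 7, 6, 3, 2, 8, 5, 1, 0, 2, 8, 0, 7, 4, 3, 8, 1, 8, 0, 2, 1, 7, 0, 4, 2, 3, 8, 1, 8, 0, 4, 5, 4, 2, 3, 1, 2, 8, 8, 2, 3, 6, 7, 4, 7, 8, 3, 2, 0, 1, 1, 0, 8, 4, 3, 8, 5, 8, 7, 2, 8, 1, 2, 8, 7, 4, 8, 6, 8, 3, 2, 8, 1, 0, 2, 3, 4, 7, 1, 8, 4, 3, 8, 1],
  [],
  [],
  [7, 1, 8, 2, 1, 0, 1, 8, 2, 1, 8, 2, 3, 6, 7, 4, 7, 8, 3, 2, 0, 1, 1, 8, 3, 4, 7, 0, 8, 2, 0, 1, 8, 0, 4, 5, 4, 2, 3, 1, 2, 8, 1, 8, 3, 2, 4, 0, 7, 1, 2, 0, 8, 1, 8, 4, 7, 8, 5, 6, 8, 2, 3, 8, 1, 1, 8, 1, 4, 8, 5, 2, 8, 4, 7, 8, 1, 1, 2, 8, 7, 4, 8, 6, 8, 3, 2, 8, 1, 8, 3, 4, 7, 0, 8, 2, 0, 1, 5],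
  [],
  [],
  [1, 8, 3, 4, 8, 1, 7, 4, 3, 2, 0, 1, 8, 2, 3, 8, 6, 8, 4, 7, 8, 2, 1, 8, 2, 7, 8, 5, 8, 3, 4, 8, 0, 1, 1, 0, 2, 3, 8, 7, 4, 7, 6, 3, 2, 8, 3, 1, 0, 2, 3, 8, 7, 4, 7, 6, 3, 2, 8, 1, 8, 2, 1, 0, 1, 8, 2, 1, 2, 8, 2, 3, 6, 7, 4, 7, 8, 3, 2, 0, 1, 5],
  [],
  [],
  [],
  [],
  [],
  [],
  [],
  [],
  [],
  [],
  [],
  [],
  [],
  [],
  [],
  [],
  [],
  [],
  [],
  [],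
  [],
  [],
  [],
  [],
  [],
  [],
  [],
  [],
  [],
  [],
  [],
  [],
  [],
  [],
  [],
  [],
  [],
  [],
  [],
  [],
  [],
  [],
  [],
  [],
  [],
  [],
  [],
  [],
  [],
  [],
  [],
  [],
  [],
  [],
  [],
  [],
  [],
  [],
  [],
  [],
  [],
  [],
  [],
  [],
  [],
  [],
  [],
  [],
  [],
  [],
  [],
  [],
  [],
  [],
  [],
  [],
  [],
  [],
  [],
  [],
  [],
  [],
  [],
  [],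
  [],
  [],
  [],
  [],
  [],
  [],
  [],
  [],
  [],
  [],
  [],
  [],
  [],
  [],
  [],
  [],
  [],
  [],
  [],
  [],
  [],
  [],
  [],
  [],
  [],
  [],
  [],
  [],
  [],
  [],
  [],
  [],
  [],
  [],
  [],
  [],
  [],
  [],
  [],
  [],
  [],
  [],
  [],
  [],
  [],
  [],
  [],
  [],
  [],
  [],
  [],
  [],
  [],
  [],
  [],
  [],
  [],
  [],
  [],
  [],
  [],
  [],
  [],
  [],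
  [],
  [],
  [],
  [],
  [],
  [],
  [],
  [],
  [],
  [],
  [],
  [],
  [],
  [],
  [],
  [],
  [],
  [],
  [],
  [],
  [],
  [],
  [],
  [],
  [],
  [],
  [],
  [],
  [],
  [],
  [],
  [],
  [],
  [],
  [],
  [],
  [],
  [],
  [],
  [],
  [],
  [],
  [],
  [],
  [],
  [],
  [],
  [],
  [],
  [],
  [],
  [],
  [],
  [],
  [],
  [],
  [],
  [],
  [],
  [],
  [],
  [],
  [],
  [],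
  [],
  [],
  [],
  [],
  [],
  [],
  [],
  [],
  [],
  [],
  [],
  [],
  [],
  [],
  [],
  [],
  [],
  [],
  [],
  [],
  [],
  [],
  [],
  [],
  [],
  [],
  [],
  [],
  [],
  [],
  [],
  [],
  [],
  [],
  [],
  [],
  [],
  [],
  [],
  [],
  [],
  [],
  [],
  [],
  [],
  [],
  [],
  [],
  [],
  [],
  [],
  [],
  [],
  [],
  [],
  [],
  [],
  [],
  [],
  [],
  []]
def wsF4 : List (List Nat) := [[],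
  [],
  [],
  [],
  [],
  [],
  [],
  [],
  [],
  [],
  [],
  [],
  [],
  [],
  [],
  [],
  [],
  [],
  [],
  [],
  [],
  [],
  [],
  [],
  [],
  [],
  [],
  [],
  [],
  [],
  [],
  [],
  [],
  [],
  [],
  [],
  [],
  [],
  [],
  [],
  [],
  [],
  [],
  [],
  [],
  [],
  [],
  [],
  [],
  [],
  [],
  [],
  [],
  [],
  [],
  [],
  [],
  [],
  [],
  [],
  [],
  [],
  [],
  [],
  [],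
  [],
  [],
  [],
  [0, 7, 4, 3, 8, 0, 7, 8, 4, 7, 8, 4, 0, 8, 1, 8, 3, 4, 8, 5, 4, 8, 3, 2, 8, 1, 1, 2, 8, 7, 4, 8, 6, 8, 3, 2, 8, 3, 7, 4, 3, 8, 0, 7, 8, 4, 7, 8, 4, 0, 8, 1, 8, 3, 4, 8, 5, 4, 8, 3, 2, 8, 1, 1, 2, 8, 7, 4, 8, 6, 8, 3, 2, 8, 3, 2],
  [],
  [],
  [],
  [],
  [],
  [4],
  [],
  [5, 7, 3, 8, 0, 7, 8, 4, 7, 8, 4, 0, 8, 8, 2, 3, 6, 7, 4, 7, 8, 3, 2, 0, 1, 1, 2, 8, 1, 0, 1, 2, 8, 1, 0],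
  [],
  [],
  [],
  [],
  [],
  [],
  [],
  [],
  [],
  [],
  [],
  [],
  [],
  [],
  [],
  [],
  [],
  [],
  [],
  [],
  [],
  [],
  [],
  [],
  [],
  [],
  [],
  [],
  [],
  [],
  [],
  [],
  [],
  [],
  [],
  [],
  [],
  [],
  [],
  [],
  [],
  [],
  [],
  [],
  [],
  [],
  [],
  [],
  [],
  [],
  [],
  [],
  [],
  [],
  [],
  [],
  [],
  [],
  [],
  [],
  [],
  [],
  [],
  [],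
  [],
  [],
  [],
  [],
  [],
  [],
  [],
  [],
  [],
  [],
  [],
  [],
  [],
  [],
  [],
  [],
  [],
  [],
  [],
  [],
  [],
  [],
  [],
  [],
  [],
  [],
  [],
  [],
  [],
  [],
  [],
  [],
  [],
  [],
  [],
  [],
  [],
  [],
  [],
  [],
  [],
  [],
  [],
  [],
  [],
  [],
  [],
  [],
  [],
  [],
  [],
  [],
  [],
  [],
  [],
  [],
  [],
  [],
  [],
  [],
  [],
  [],
  [],
  [],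
  [],
  [],
  [],
  [],
  [],
  [],
  [],
  [],
  [],
  [],
  [],
  [],
  [],
  [],
  [],
  [],
  [],
  [],
  [],
  [],
  [],
  [],
  [],
  [],
  [],
  [],
  [],
  [],
  [],
  [],
  [],
  [],
  [],
  [],
  [],
  [],
  [],
  [],
  [],
  [],
  [],
  [],
  [],
  [],
  [],
  [],
  [],
  [],
  [],
  [],
  [],
  [],
  [],
  [],
  [],
  [],
  [],
  [],
  [],
  [],
  [],
  [],
  [],
  [],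
  [],
  [],
  [],
  [],
  [],
  [],
  [],
  [],
  [],
  [],
  [],
  [],
  [],
  [],
  [],
  [],
  [],
  [],
  [],
  [],
  [],
  [],
  [],
  [],
  [],
  [],
  [],
  [],
  [],
  [],
  [],
  [],
  [],
  [],
  [],
  [],
  [],
  [],
  [],
  [],
  [],
  [],
  [],
  [],
  [],
  [],
  [],
  [],
  [],
  [],
  [],
  [],
  [],
  [],
  [],
  [],
  [],
  [],
  [],
  [],
  [],
  [],
  [],
  [],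
  [],
  [],
  [],
  [],
  [],
  [],
  [],
  [],
  [],
  [],
  [],
  [],
  [],
  [],
  [],
  [],
  [],
  [],
  [],
  [],
  [],
  [],
  [],
  [],
  [],
  [],
  []]
def wsF5 : List (List Nat) := [[],
  [],
  [],
  [],
  [],
  [],
  [],
  [],
  [],
  [],
  [],
  [],
  [],
  [],
  [],
  [],
  [],
  [],
  [5, 4, 7, 4, 5],
  [],
  [],
  [],
  [],
  [],
  [0, 7, 4, 3, 8, 0, 7, 8, 4, 7, 8, 4, 0, 8, 1, 8, 3, 4, 8, 5, 4, 8, 3, 2, 8, 1, 1, 2, 8, 7, 4, 8, 6, 8, 3, 2, 8, 3, 7, 4, 3, 8, 0, 7, 8, 4, 7, 8, 4, 0, 8, 1, 8, 3, 4, 8, 5, 4, 8, 3, 2, 8, 1, 1, 2, 8, 7, 4, 8, 6, 8, 3, 2, 8, 3, 2, 5, 7, 3, 8, 0, 7, 8, 4, 7, 8, 4, 0, 8, 8, 2, 3, 6, 7, 4, 7, 8, 3, 2, 0, 1, 1, 2, 8, 1, 0, 1, 2, 8, 1, 0, 4],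
  [],
  [],
  [],
  [],
  [],
  [],
  [],
  [],
  [],
  [],
  [],
  [],
  [],
  [],
  [],
  [],
  [],
  [],
  [],
  [],
  [],
  [],
  [],
  [],
  [],
  [],
  [],
  [],
  [],
  [],
  [],
  [],
  [],
  [],
  [],
  [],
  [],
  [],
  [],
  [],
  [],
  [],
  [],
  [],
  [],
  [],
  [],
  [],
  [],
  [],
  [],
  [],
  [],
  [],
  [],
  [],
  [],
  [],
  [],
  [],
  [],
  [],
  [],
  [],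
  [],
  [],
  [],
  [],
  [],
  [5, 7, 3, 8, 0, 7, 8, 4, 7, 8, 4, 0, 8, 8, 2, 3, 6, 7, 4, 7, 8, 3, 2, 0, 1, 1, 2, 8, 1, 0, 1, 2, 8, 1, 0, 5, 4, 7, 4, 5, 0, 1, 8, 2, 1, 0, 1, 8, 2, 1, 1, 0, 2, 3, 8, 7, 4, 7, 6, 3, 2, 8, 8, 0, 4, 8, 7, 4, 8, 7, 0, 8, 3, 7, 5],
  [],
  [],
  [],
  [],
  [],
  [],
  [],
  [],
  [],
  [],
  [],
  [],
  [],
  [],
  [],
  [],
  [],
  [],
  [],
  [],
  [],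
  [],
  [],
  [],
  [],
  [],
  [],
  [],
  [],
  [],
  [],
  [],
  [],
  [],
  [],
  [],
  [],
  [],
  [],
  [],
  [],
  [],
  [],
  [],
  [],
  [],
  [],
  [],
  [],
  [],
  [],
  [],
  [],
  [],
  [],
  [],
  [],
  [],
  [],
  [],
  [],
  [],
  [],
  [],
  [],
  [],
  [],
  [],
  [],
  [],
  [],
  [],
  [],
  [],
  [],
  [],
  [],
  [],
  [],
  [],
  [],
  [],
  [],
  [],
  [],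
  [],
  [],
  [],
  [],
  [],
  [],
  [],
  [],
  [],
  [],
  [],
  [],
  [],
  [],
  [],
  [],
  [],
  [],
  [],
  [],
  [],
  [],
  [],
  [],
  [],
  [],
  [],
  [],
  [],
  [],
  [],
  [],
  [],
  [],
  [],
  [],
  [],
  [],
  [],
  [],
  [],
  [],
  [],
  [],
  [],
  [],
  [],
  [],
  [],
  [],
  [],
  [],
  [],
  [],
  [],
  [],
  [],
  [],
  [],
  [],
  [],
  [],
  [],
  [],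
  [],
  [],
  [],
  [],
  [],
  [],
  [],
  [],
  [],
  [],
  [],
  [],
  [],
  [],
  [],
  [],
  [],
  [],
  [],
  [],
  [],
  [],
  [],
  [],
  [],
  [],
  [],
  [],
  [],
  [],
  [],
  [],
  [],
  [],
  [],
  [],
  [],
  [],
  [],
  [],
  [],
  [],
  [],
  [],
  [],
  [],
  [],
  [],
  [],
  [],
  [],
  [],
  [],
  [],
  [],
  [],
  [],
  [],
  [],
  [],
  [],
  [],
  [],
  [],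
  [],
  [],
  [],
  [],
  [],
  [],
  [],
  [],
  [],
  [],
  [],
  [],
  [],
  [],
  [],
  [],
  [],
  [],
  [],
  [],
  [],
  [],
  [],
  [],
  [],
  [],
  [],
  [],
  [],
  [],
  [],
  [],
  [],
  [],
  [],
  [],
  [],
  [],
  [],
  [],
  [],
  [],
  [],
  [],
  [],
  [],
  [],
  [],
  [],
  [],
  [],
  []]
def wsF6 : List (List Nat) := [[],
  [],
  [],
  [],
  [],
  [],
  [],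
  [],
  [],
  [],
  [],
  [],
  [],
  [],
  [],
  [],
  [],
  [5, 7, 3, 8, 0, 7, 8, 4, 7, 8, 4, 0, 8, 8, 2, 3, 6, 7, 4, 7, 8, 3, 2, 0, 1, 1, 2, 8, 1, 0, 1, 2, 8, 1, 0, 5, 7, 3, 8, 0, 7, 8, 4, 7, 8, 4, 0, 8, 8, 2, 3, 6, 7, 4, 7, 8, 3, 2, 0, 1, 1, 2, 8, 1, 0, 1, 2, 8, 1, 0],
  [],
  [],
  [],
  [],
  [],
  [],
  [],
  [],
  [],
  [],
  [],
  [],
  [],
  [],
  [],
  [],
  [],
  [],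
  [],
  [],
  [],
  [],
  [],
  [],
  [],
  [],
  [],
  [],
  [],
  [],
  [],
  [],
  [],
  [],
  [],
  [],
  [],
  [],
  [],
  [],
  [],
  [],
  [],
  [],
  [],
  [],
  [],
  [],
  [],
  [],
  [],
  [],
  [],
  [],
  [],
  [],
  [],
  [],
  [],
  [],
  [],
  [],
  [],
  [],
  [],
  [],
  [],
  [],
  [],
  [],
  [],
  [],
  [],
  [],
  [],
  [],
  [],
  [],
  [],
  [],
  [],
  [],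
  [],
  [],
  [],
  [],
  [],
  [],
  [],
  [],
  [],
  [],
  [],
  [],
  [],
  [],
  [],
  [],
  [],
  [],
  [],
  [3, 1, 8, 4, 7, 8, 5, 6, 8, 2, 3, 8, 1, 3, 8, 5, 4, 7, 8, 7, 4, 5, 8, 4, 8, 5, 4, 7, 8, 7, 4, 5, 8, 3, 1, 8, 3, 2, 8, 6, 5, 8, 7, 4, 8, 1, 3],
  [],
  [],
  [],
  [],
  [],
  [],
  [],
  [],
  [],
  [],
  [],
  [],
  [],
  [],
  [],
  [],
  [],
  [],
  [],
  [],
  [],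
  [],
  [],
  [],
  [],
  [],
  [],
  [],
  [],
  [],
  [],
  [],
  [],
  [],
  [],
  [],
  [],
  [],
  [],
  [],
  [],
  [],
  [],
  [],
  [],
  [],
  [],
  [],
  [],
  [],
  [],
  [],
  [],
  [],
  [],
  [],
  [],
  [],
  [],
  [],
  [],
  [],
  [],
  [],
  [],
  [],
  [],
  [],
  [],
  [],
  [],
  [],
  [],
  [],
  [],
  [],
  [],
  [],
  [],
  [],
  [],
  [],
  [],
  [],
  [],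
  [],
  [],
  [],
  [],
  [],
  [],
  [],
  [],
  [],
  [],
  [],
  [],
  [],
  [],
  [],
  [],
  [],
  [],
  [],
  [],
  [],
  [],
  [],
  [],
  [],
  [],
  [],
  [],
  [],
  [],
  [],
  [],
  [],
  [],
  [],
  [],
  [],
  [],
  [],
  [],
  [],
  [],
  [],
  [],
  [],
  [],
  [],
  [],
  [],
  [],
  [],
  [],
  [],
  [],
  [],
  [],
  [],
  [],
  [],
  [],
  [],
  [],
  [],
  [],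
  [],
  [],
  [],
  [],
  [],
  [],
  [],
  [],
  [],
  [],
  [],
  [],
  [],
  [],
  [],
  [],
  [],
  [],
  [],
  [],
  [],
  [],
  [],
  [],
  [],
  [],
  [],
  [],
  [],
  [],
  [],
  [],
  [],
  [],
  [],
  [],
  [],
  [],
  [],
  [],
  [],
  [],
  [],
  [],
  [],
  [],
  [],
  [],
  [],
  [],
  [],
  [],
  [],
  [],
  [],
  [],
  [],
  [],
  [],
  [],
  [],
  [],
  [],
  [],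
  [],
  [],
  [],
  [],
  [],
  [],
  [],
  [],
  [],
  [],
  [],
  [],
  [],
  [],
  [],
  [],
  [],
  [],
  [],
  [],
  [],
  [],
  [],
  [],
  [],
  [],
  []]
def wsF7 : List (List Nat) := [[],
  [],
  [],
  [],
  [],
  [],
  [],
  [],
  [],
  [],
  [],
  [],
  [],
  [],
  [],
  [],
  [],
  [],
  [],
  [],
  [],
  [],
  [],
  [],
  [],
  [],
  [],
  [],
  [],
  [],
  [],
  [],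
  [],
  [],
  [],
  [],
  [],
  [],
  [],
  [],
  [],
  [],
  [],
  [],
  [],
  [],
  [],
  [],
  [],
  [],
  [],
  [],
  [],
  [],
  [],
  [],
  [],
  [],
  [],
  [],
  [],
  [],
  [],
  [],
  [],
  [],
  [],
  [],
  [],
  [],
  [],
  [],
  [],
  [],
  [],
  [],
  [],
  [],
  [],
  [],
  [],
  [],
  [],
  [],
  [],
  [],
  [],
  [],
  [],
  [],
  [],
  [],
  [],
  [],
  [],
  [],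
  [],
  [],
  [5, 4, 7, 4, 5, 5, 7, 3, 8, 0, 7, 8, 4, 7, 8, 4, 0, 8, 8, 2, 3, 6, 7, 4, 7, 8, 3, 2, 0, 1, 1, 2, 8, 1, 0, 1, 2, 8, 1, 0, 5, 4, 7, 4, 5, 0, 1, 8, 2, 1, 0, 1, 8, 2, 1, 1, 0, 2, 3, 8, 7, 4, 7, 6, 3, 2, 8, 8, 0, 4, 8, 7, 4, 8, 7, 0, 8, 3, 7, 5, 5, 4, 7, 4, 5],
  [],
  [],
  [],
  [],
  [],
  [],
  [],
  [],
  [],
  [],
  [],
  [],
  [],
  [],
  [],
  [],
  [],
  [],
  [],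
  [],
  [],
  [],
  [],
  [],
  [],
  [],
  [],
  [],
  [],
  [],
  [],
  [],
  [],
  [],
  [],
  [],
  [],
  [],
  [],
  [],
  [],
  [],
  [],
  [],
  [],
  [],
  [],
  [],
  [],
  [],
  [],
  [],
  [],
  [],
  [],
  [],
  [],
  [],
  [],
  [],
  [],
  [],
  [],
  [],
  [],
  [],
  [],
  [],
  [],
  [],
  [],
  [],
  [],
  [],
  [],
  [],
  [],
  [],
  [],
  [],
  [],
  [],
  [],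
  [],
  [],
  [],
  [],
  [],
  [],
  [],
  [],
  [],
  [],
  [],
  [],
  [],
  [],
  [],
  [],
  [],
  [],
  [],
  [],
  [],
  [],
  [],
  [],
  [],
  [],
  [],
  [],
  [],
  [],
  [],
  [],
  [],
  [],
  [],
  [],
  [],
  [],
  [],
  [],
  [],
  [],
  [],
  [],
  [],
  [],
  [],
  [],
  [],
  [],
  [],
  [],
  [],
  [],
  [],
  [],
  [],
  [],
  [],
  [],
  [],
  [],
  [],
  [],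
  [],
  [],
  [],
  [],
  [],
  [],
  [],
  [],
  [],
  [],
  [],
  [],
  [],
  [],
  [],
  [],
  [],
  [],
  [],
  [],
  [],
  [],
  [],
  [],
  [],
  [],
  [],
  [],
  [],
  [],
  [],
  [],
  [],
  [],
  [],
  [],
  [],
  [],
  [],
  [],
  [],
  [],
  [],
  [],
  [],
  [],
  [],
  [],
  [],
  [],
  [],
  [],
  [],
  [],
  [],
  [],
  [],
  [],
  [],
  [],
  [],
  [],
  [],
  [],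
  [],
  [],
  [],
  [],
  [],
  [],
  [],
  [],
  [],
  [],
  [],
  [],
  [],
  [],
  [],
  [],
  [],
  [],
  [],
  [],
  [],
  [],
  [],
  [],
  [],
  [],
  [],
  [],
  [],
  [],
  [],
  [],
  [],
  [],
  [],
  [],
  [],
  [],
  [],
  [],
  [],
  [],
  [],
  [],
  [],
  [],
  [],
  [],
  [],
  []]
def stepsF : List SStep := [.orbit 0 wsF0, .orbit 6 wsF1, .orbit 26 wsF2, .orbit 1 wsF3, .orbit 66 wsF4, .orbit 5 wsF5, .orbit 11 wsF6, .orbit 12 wsF7]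
theorem okF : dataF.okSteps stepsF [] = true := by decide +kernel
theorem finF : dataF.okFinal (SData.finalPre stepsF []) 120 = true ∧ (SData.finalPre stepsF []).all (fun p => rowF.contains p) = true := by decide +kernel

end CfsgLib.SporRecognition.F22Model.Outer
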