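import Cfsg.Prelude.Def_Classical
import Cfsg.Agent.Lib.SporRecognition.CosetCert.Basic

/-!
The orthogonal group of minus type in dimension six over two elements, on the 64 vectors: it has order at least 51840,
it is generated by its reflections, and it has no nontrivial normal 2-subgroup.
-/

set_option autoImplicit false
set_option maxRecDepth 100000
set_option maxHeartbeats 2000000

namespace CfsgLib.SporRecognition.F22Model.Outer.MinusSix

open Matrix

abbrev Ix : Type := (Fin 2 ⊕ Fin 2) ⊕ Fin 2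

abbrev Q : (Ix → ZMod 2) → ZMod 2 := Cfsg.quadFormMinus 2 (ZMod 2) 1 1

abbrev Iso : Subgroup (GL Ix (ZMod 2)) := Cfsg.isometryGroup (ZMod 2) Q

/-- The place of a coordinate. -/
def bitIx : Ix → Nat
  | .inl (.inl i) => i.1
  | .inl (.inr i) => 2 + i.1
  | .inr i => 4 + i.1

/-- The form on indices. -/
def qn (x : Nat) : Bool :=
  Bool.xor (Bool.xor (x.testBit 0 && x.testBit 2) (x.testBit 1 && x.testBit 3))
    (Bool.xor (x.testBit 4) (Bool.xor (x.testBit 4 && x.testBit 5) (x.testBit 5)))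

/-- The polar form on indices. -/
def bn (x y : Nat) : Bool := Bool.xor (qn (x ^^^ y)) (Bool.xor (qn x) (qn y))

/-- Addition of indices. -/
def xf (x y : Fin 64) : Fin 64 := ⟨(x.1 ^^^ y.1) % 64, Nat.mod_lt _ (by decide)⟩

/-- The reflection along a vector, on indices. -/
def refl (v x : Fin 64) : Fin 64 := if qn v.1 && bn x.1 v.1 then xf x v else x

/-- The vector of an index. -/
def toVec (x : Fin 64) : Ix → ZMod 2 := fun i => if x.1.testBit (bitIx i) then 1 else 0

theorem toVec_injective : Function.Injective toVec := by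
  intro a b h
  revert h
  revert a b
  decide +kernel

theorem toVec_bijective : Function.Bijective toVec :=
  (Fintype.bijective_iff_injective_and_card _).2 ⟨toVec_injective, by simp⟩

noncomputable def ev : Fin 64 ≃ (Ix → ZMod 2) := Equiv.ofBijective toVec toVec_bijective

theorem toVec_xf : ∀ x y : Fin 64, toVec (xf x y) = toVec x + toVec y := by decide +kernel

theorem Q_toVec : ∀ x : Fin 64, Q (toVec x) = if qn x.1 then 1 else 0 := by decide +kernel

/-- The linear map of an isometry, on indices. -/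
noncomputable def rho (A : Iso) (x : Fin 64) : Fin 64 :=
  ev.symm ((((A : GL Ix (ZMod 2))) : Matrix Ix Ix (ZMod 2)) *ᵥ toVec x)

theorem toVec_rho (A : Iso) (x : Fin 64) :
    toVec (rho A x) = (((A : GL Ix (ZMod 2))) : Matrix Ix Ix (ZMod 2)) *ᵥ toVec x :=
  ev.apply_symm_apply _

theorem rho_one (x : Fin 64) : rho 1 x = x := toVec_injective (by simp [toVec_rho])

theorem rho_mul (A B : Iso) (x : Fin 64) : rho (A * B) x = rho A (rho B x) :=
  toVec_injective (by simp [toVec_rho, Matrix.mulVec_mulVec])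

theorem rho_inv_apply (A : Iso) (x : Fin 64) : rho A⁻¹ (rho A x) = x := by
  rw [← rho_mul, inv_mul_cancel, rho_one]

theorem rho_injective (A : Iso) : Function.Injective (rho A) :=
  Function.LeftInverse.injective (rho_inv_apply A)

theorem rho_xf (A : Iso) (x y : Fin 64) : rho A (xf x y) = xf (rho A x) (rho A y) :=
  toVec_injective (by simp [toVec_rho, toVec_xf, Matrix.mulVec_add])

theorem qn_rho (A : Iso) (x : Fin 64) : qn (rho A x).1 = qn x.1 := by
  have h : Q (toVec (rho A x)) = Q (toVec x) := by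
    rw [toVec_rho]; exact A.2 (toVec x) (toVec x)
  rw [Q_toVec, Q_toVec] at h
  cases h1 : qn (rho A x).1 <;> cases h2 : qn x.1 <;> simp [h1, h2] at h ⊢

theorem bn_xf : ∀ x y : Fin 64, qn (xf x y).1 = qn (x.1 ^^^ y.1) := by decide +kernel

theorem bn_rho (A : Iso) (x y : Fin 64) : bn (rho A x).1 (rho A y).1 = bn x.1 y.1 := by
  simp only [bn, ← bn_xf, ← rho_xf, qn_rho]

theorem eq_of_rho {A B : Iso} (h : ∀ x, rho A x = rho B x) : A = B := by
  refine Subtype.ext (Units.ext (Matrix.toLin'.injective (LinearMap.ext fun v => ?_)))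
  obtain ⟨x, rfl⟩ := toVec_bijective.2 v
  rw [Matrix.toLin'_apply, Matrix.toLin'_apply, ← toVec_rho, ← toVec_rho, h]

/-- The matrix of a reflection. -/
def rMat (v : Fin 64) : Matrix Ix Ix (ZMod 2) :=
  Matrix.of fun i j => (if i = j then 1 else 0) +
    if qn v.1 && bn (2 ^ bitIx j) v.1 then toVec v i else 0

theorem rMat_sq : ∀ v : Fin 64, rMat v * rMat v = 1 := by decide +kernel

theorem rMat_toVec : ∀ v x : Fin 64, rMat v *ᵥ toVec x = toVec (refl v x) := by decide +kernel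

theorem qn_refl : ∀ v x : Fin 64, qn (refl v x).1 = qn x.1 := by decide +kernel

/-- The reflection along a vector, or the identity for a singular one. -/
def R (v : Fin 64) : Iso :=
  ⟨⟨rMat v, rMat v, rMat_sq v, rMat_sq v⟩, fun u w => by
    show Q (rMat v *ᵥ u) = Q u
    obtain ⟨x, rfl⟩ := toVec_bijective.2 u
    rw [rMat_toVec, Q_toVec, Q_toVec, qn_refl]⟩

theorem rho_R (v x : Fin 64) : rho (R v) x = refl v x :=
  toVec_injective ((toVec_rho _ _).trans (rMat_toVec v x))

theorem R_sq (v : Fin 64) : R v * R v = 1 := Subtype.ext (Units.ext (rMat_sq v))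

theorem R_inv (v : Fin 64) : (R v)⁻¹ = R v := inv_eq_of_mul_eq_one_right (R_sq v)

theorem R_singular : ∀ v : Fin 64, qn v.1 = false → ∀ x, refl v x = x := by decide +kernel

theorem R_eq_one {v : Fin 64} (h : qn v.1 = false) : R v = 1 :=
  eq_of_rho fun x => by rw [rho_R, rho_one, R_singular v h]

theorem rho_refl (A : Iso) (v x : Fin 64) : rho A (refl v x) = refl (rho A v) (rho A x) := by
  simp only [refl, qn_rho, bn_rho]
  split
  · exact rho_xf A x v
  · rfl

theorem conj_R (A : Iso) (v : Fin 64) : A * R v * A⁻¹ = R (rho A v) := by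
  refine eq_of_rho fun x => ?_
  rw [rho_mul, rho_mul, rho_R, rho_refl, ← rho_mul, mul_inv_cancel, rho_one, rho_R]

/-! ### The chain of stabilisers -/

def bB : List (Fin 64) := [5, 1, 2, 8, 16, 32]
def wWL : List (List Nat) := [[0, 0, 0, 0, 0, 0, 0, 1107, 0, 0, 1244, 14, 0, 1113, 11, 0, 2164, 20, 732, 22, 17, 0, 19, 0, 726, 28, 0, 0, 25, 0, 0, 721, 1140, 36, 748, 38, 33, 0, 35, 0, 742, 44, 0, 0, 41, 0, 0, 737, 1124, 52, 764, 54, 49, 0, 51, 0, 758, 60, 0, 0, 57, 0, 0, 753], [0, 0, 0, 327, 5, 0, 7, 0, 0, 333, 0, 0, 13, 0, 0, 0, 0, 0, 0, 0, 0, 0, 0, 0, 0, 0, 0, 351, 0, 0, 31, 0, 0, 0, 0, 0, 0, 0, 0, 0, 0, 0, 0, 367, 0, 0, 47, 0, 0, 0, 0, 0, 0, 0, 0, 0, 0, 0, 0, 383, 0, 0, 63, 0], [0, 0, 0, 0, 0, 0, 0, 0, 10, 0, 0, 0, 0, 0, 0, 0, 0, 0, 0, 0, 0, 0, 0, 0, 0, 0, 24, 0, 0, 0, 0, 0, 0, 0, 0, 0, 0, 0, 0, 0, 0, 0, 40, 0, 0, 0, 0, 0, 0, 0, 0, 0, 0, 0, 0, 0, 0, 0, 56, 0, 0, 0, 0, 0], [0, 0, 0, 0, 0, 0, 0, 0, 0, 0, 0, 0, 0, 0, 0, 0, 0, 0, 0, 0, 0, 0, 0, 0, 0, 0,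 18, 0, 0, 0, 0, 0, 0, 0, 0, 0, 0, 0, 0, 0, 0, 0, 34, 0, 0, 0, 0, 0, 0, 0, 0, 0, 0, 0, 0, 0, 0, 0, 50, 0, 0, 0, 0, 0], [0, 0, 0, 0, 0, 0, 0, 0, 0, 0, 0, 0, 0, 0, 0, 0, 0, 0, 0, 0, 0, 0, 0, 0, 0, 0, 0, 0, 0, 0, 0, 0, 48, 0, 0, 0, 0, 0, 0, 0, 0, 0, 0, 0, 0, 0, 0, 0, 32, 0, 0, 0, 0, 0, 0, 0, 0, 0, 0, 0, 0, 0, 0, 0], [0, 0, 0, 0, 0, 0, 0, 0, 0, 0, 0, 0, 0, 0, 0, 0, 0, 0, 0, 0, 0, 0, 0, 0, 0, 0, 0, 0, 0, 0, 0, 0, 0, 0, 0, 0, 0, 0, 0, 0, 0, 0, 0, 0, 0, 0, 0, 0, 16, 0, 0, 0, 0, 0, 0, 0, 0, 0, 0, 0, 0, 0, 0, 0]]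

def b (j : Nat) : Fin 64 := bB.getD j 0

def w1 (j : Nat) (x : Fin 64) : Fin 64 := ⟨((wWL.getD j []).getD x.1 0) / 64 % 64, Nat.mod_lt _ (by decide)⟩
def w2 (j : Nat) (x : Fin 64) : Fin 64 := ⟨((wWL.getD j []).getD x.1 0) % 64, Nat.mod_lt _ (by decide)⟩

/-- The possible images of a basis vector when the earlier ones are fixed. -/
def cand (j : Nat) (x : Fin 64) : Bool :=
  decide (x ≠ 0) && (qn x.1 == qn (b j).1) &&
    (List.range j).all (fun l => bn x.1 (b l).1 == bn (b j).1 (b l).1)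

theorem chain_ok : ∀ j : Fin 6, ∀ x : Fin 64, cand j.1 x = true →
    refl (w2 j.1 x) (refl (w1 j.1 x) x) = b j.1 ∧
      ∀ l : Fin 6, l < j → refl (w2 j.1 x) (refl (w1 j.1 x) (b l.1)) = b l.1 := by
  decide +kernel

/-- The element bringing a candidate to the basis vector. -/
def step (j : Nat) (x : Fin 64) : Iso := R (w2 j x) * R (w1 j x)

theorem step_spec {j : Nat} (hj : j < 6) {x : Fin 64} (h : cand j x = true) :
    rho (step j x) x = b j ∧ ∀ l, l < j → rho (step j x) (b l) = b l := by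
  obtain ⟨h1, h2⟩ := chain_ok ⟨j, hj⟩ x h
  refine ⟨?_, fun l hl => ?_⟩
  · rw [step, rho_mul, rho_R, rho_R]; exact h1
  · rw [step, rho_mul, rho_R, rho_R]; exact h2 ⟨l, by omega⟩ hl

theorem b_ne_zero : ∀ j : Fin 6, b j.1 ≠ 0 := by decide +kernel

/-- The pointwise stabiliser of the first basis vectors. -/
def Fix (j : Nat) (A : Iso) : Prop := ∀ l, l < j → rho A (b l) = b l

theorem rho_zero (A : Iso) : rho A 0 = 0 :=
  toVec_injective (by rw [toVec_rho, show toVec 0 = 0 from by decide +kernel, Matrix.mulVec_zero])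

theorem cand_of_fix {j : Nat} (hj : j < 6) {A : Iso} (h : Fix j A) : cand j (rho A (b j)) = true := by
  simp only [cand, Bool.and_eq_true, decide_eq_true_eq, beq_iff_eq, List.all_eq_true, List.mem_range]
  refine ⟨⟨fun h0 => b_ne_zero ⟨j, hj⟩ (rho_injective A (h0.trans (rho_zero A).symm)), qn_rho A _⟩, fun l hl => ?_⟩
  conv_lhs => rw [← h l hl]
  exact bn_rho A _ _

theorem span_ok : ∀ x : Fin 64, ∃ s : Fin 64,
    ((List.range 6).filter (fun l => s.1.testBit l)).foldr (fun l y => xf (b l) y) 0 = x := by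
  decide +kernel

theorem eq_one_of_fix {A : Iso} (h : Fix 6 A) : A = 1 := by
  refine eq_of_rho fun x => ?_
  rw [rho_one]
  obtain ⟨s, rfl⟩ := span_ok x
  have key : ∀ L : List Nat, (∀ l ∈ L, l < 6) →
      rho A (L.foldr (fun l y => xf (b l) y) 0) = L.foldr (fun l y => xf (b l) y) 0 := by
    intro L hL
    induction L with
    | nil => exact rho_zero A
    | cons l L ih =>
      rw [List.foldr_cons, rho_xf, h l (hL l (List.mem_cons_self ..)), ih fun m hm => hL m (List.mem_cons_of_mem _ hm)]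
  exact key _ fun l hl => List.mem_range.1 (List.mem_filter.1 hl).1

/-- The reflections generate. -/
theorem mem_of_reflections {P : Subgroup Iso} (hP : ∀ v : Fin 64, qn v.1 = true → R v ∈ P) (A : Iso) : A ∈ P := by
  have hall : ∀ v, R v ∈ P := fun v => by
    cases h : qn v.1
    · rw [R_eq_one h]; exact one_mem _
    · exact hP v h
  suffices H : ∀ k j, j + k = 6 → ∀ B : Iso, Fix j B → B ∈ P from H 6 0 rfl A fun l hl => absurd hl (by omega)
  intro k
  induction k with
  | zero =>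
    intro j hj B hB
    obtain rfl : j = 6 := by omega
    rw [eq_one_of_fix hB]
    exact one_mem _
  | succ k ih =>
    intro j hj B hB
    have hc := cand_of_fix (by omega) hB
    obtain ⟨h1, h2⟩ := step_spec (by omega) hc
    have hfix : Fix (j + 1) (step j (rho B (b j)) * B) := fun l hl => by
      rw [rho_mul]
      rcases Nat.lt_succ_iff_lt_or_eq.1 hl with hl' | rfl
      · rw [hB l hl', h2 l hl']
      · exact h1
    have hs : step j (rho B (b j)) ∈ P := mul_mem (hall _) (hall _)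
    exact (Subgroup.mul_mem_cancel_left P hs).1 (ih (j + 1) (by omega) _ hfix)

instance : Finite Iso :=
  Finite.of_injective (fun A : Iso => fun x => rho A x) fun _ _ h => eq_of_rho (congrFun h)

theorem card_step {j : Nat} (hj : j < 6) :
    Nat.card {x : Fin 64 // cand j x = true} * Nat.card {A : Iso // Fix (j + 1) A} ≤ Nat.card {A : Iso // Fix j A} := by
  rw [← Nat.card_prod]
  refine Nat.card_le_card_of_injective
    (fun p => ⟨(step j p.1.1)⁻¹ * p.2.1, fun l hl => ?_⟩) fun p q h => ?_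
  · obtain ⟨-, h2⟩ := step_spec hj p.1.2
    rw [rho_mul, p.2.2 l (Nat.lt_succ_of_lt hl)]
    conv_lhs => rw [← h2 l hl, rho_inv_apply]
  · have h' : (step j p.1.1)⁻¹ * p.2.1 = (step j q.1.1)⁻¹ * q.2.1 := congrArg Subtype.val h
    have e : ∀ r : {x : Fin 64 // cand j x = true} × {A : Iso // Fix (j + 1) A},
        rho ((step j r.1.1)⁻¹ * r.2.1) (b j) = r.1.1 := fun r => by
      rw [rho_mul, r.2.2 j (Nat.lt_succ_self j)]
      conv_lhs => rw [← (step_spec hj r.1.2).1, rho_inv_apply]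
    have h1 : p.1 = q.1 := Subtype.ext (by rw [← e p, ← e q, h'])
    refine Prod.ext h1 (Subtype.ext ?_)
    rw [h1] at h'
    exact mul_left_cancel h'

theorem cand_count : ((List.range 6).map fun j => (Finset.univ.filter fun x : Fin 64 => cand j x = true).card)
    = [36, 12, 5, 4, 3, 2] := by decide +kernel

theorem le_card : 51840 ≤ Nat.card Iso := by
  have hc : ∀ j (hj : j < 6), Nat.card {x : Fin 64 // cand j x = true} = [36, 12, 5, 4, 3, 2][j]'hj := by
    intro j hj
    rw [Nat.card_eq_fintype_card, Fintype.card_subtype]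
    simp only [← cand_count, List.getElem_map, List.getElem_range]
  have h0 := card_step (j := 0) (by decide)
  have h1 := card_step (j := 1) (by decide)
  have h2 := card_step (j := 2) (by decide)
  have h3 := card_step (j := 3) (by decide)
  have h4 := card_step (j := 4) (by decide)
  have h5 := card_step (j := 5) (by decide)
  simp only [hc 0 (by decide), hc 1 (by decide), hc 2 (by decide), hc 3 (by decide), hc 4 (by decide),
    hc 5 (by decide), List.getElem_cons_zero, List.getElem_cons_succ, Nat.reduceAdd] at h0 h1 h2 h3 h4 h5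
  have : Nonempty {A : Iso // Fix 6 A} := ⟨⟨1, fun l _ => rho_one _⟩⟩
  have h6 : 0 < Nat.card {A : Iso // Fix 6 A} := Nat.card_pos
  have hle : Nat.card {A : Iso // Fix 0 A} ≤ Nat.card Iso :=
    Nat.card_le_card_of_injective Subtype.val Subtype.val_injective
  omega

/-! ### No normal 2-subgroup -/

theorem order_three : ∀ u v : Fin 64, qn u.1 = true → qn v.1 = true → bn u.1 v.1 = true →
    refl u (refl v u) ≠ u ∧ ∀ l : Fin 6, refl u (refl v (refl u (refl v (refl u (refl v (b l.1)))))) = b l.1 := by decide +kernel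

theorem exists_z : ∀ u v : Fin 64, qn u.1 = true → qn v.1 = true → u ≠ v → bn u.1 v.1 = false →
    ∃ z : Fin 64, refl z v = v ∧ qn (refl z u).1 = true ∧ bn u.1 (refl z u).1 = true := by decide +kernel

theorem not_mem {N : Subgroup Iso} (hp : IsPGroup 2 N) {u v : Fin 64} (hu : qn u.1 = true) (hv : qn v.1 = true)
    (hb : bn u.1 v.1 = true) : R u * R v ∉ N := by
  intro h
  obtain ⟨h1, h3⟩ := order_three u v hu hv hb
  have h3' : (R u * R v) ^ 3 = 1 := eq_one_of_fix fun l hl => by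
    simp only [pow_succ, pow_zero, one_mul, rho_mul, rho_R]
    exact h3 ⟨l, hl⟩
  obtain ⟨k, hk⟩ := hp ⟨_, h⟩
  have hk' : (R u * R v) ^ 2 ^ k = 1 := congrArg Subtype.val hk
  have hne : R u * R v ≠ 1 := fun e => h1 (by
    have := congrArg (fun A => rho A u) e
    simpa only [rho_mul, rho_R, rho_one] using this)
  refine hne (orderOf_eq_one_iff.1 (Nat.dvd_one.1 ?_))
  have := Nat.dvd_gcd (orderOf_dvd_of_pow_eq_one h3') (orderOf_dvd_of_pow_eq_one hk')
  rwa [(Nat.Coprime.pow_right k (by decide : Nat.Coprime 3 2))] at this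

theorem nonsingular_span : ∀ x : Fin 64, ∃ u : Fin 64, qn u.1 = true ∧ qn (xf u x).1 = true ∧ xf u (xf u x) = x := by
  decide +kernel

theorem eq_bot_of_normal {N : Subgroup Iso} (hN : N.Normal) (hp : IsPGroup 2 N) : N = ⊥ := by
  rw [Subgroup.eq_bot_iff_forall]
  intro A hA
  have hfix : ∀ v : Fin 64, qn v.1 = true → rho A v = v := by
    intro v hv
    by_contra hne
    have hu : qn (rho A v).1 = true := (qn_rho A v).trans hv
    have hm : R (rho A v) * R v ∈ N := by
      rw [← conj_R, show A * R v * A⁻¹ * R v = A * (R v * A⁻¹ * (R v)⁻¹) by rw [R_inv]; group]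
      exact mul_mem hA (hN.conj_mem _ (inv_mem hA) _)
    cases hb : bn (rho A v).1 v.1
    · obtain ⟨z, hzv, hu', hb'⟩ := exists_z _ _ hu hv hne hb
      have hm' := hN.conj_mem _ hm (R z)
      rw [show R z * (R (rho A v) * R v) * (R z)⁻¹ = (R z * R (rho A v) * (R z)⁻¹) * (R z * R v * (R z)⁻¹) by group,
        conj_R, conj_R, rho_R, rho_R, hzv] at hm'
      refine not_mem hp hu hu' hb' ?_
      have := mul_mem hm (inv_mem hm')
      rwa [_root_.mul_inv_rev, R_inv, R_inv, ← mul_assoc, mul_assoc (R _) (R v) (R v), R_sq, mul_one] at this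
    · exact not_mem hp hu hv hb hm
  refine eq_of_rho fun x => ?_
  obtain ⟨u, h1, h2, h3⟩ := nonsingular_span x
  rw [rho_one, ← h3, rho_xf, hfix u h1, hfix _ h2]

end CfsgLib.SporRecognition.F22Model.Outer.MinusSix
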