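import Cfsg.Agent.Lib.SporRecognition.F22Model.Outer.Basic

/-! The two further outer involutions, their fixed points and the subgroups these generate -/

set_option autoImplicit false
set_option maxRecDepth 100000
set_option linter.all false
set_option Elab.async false

namespace CfsgLib.SporRecognition.F22Model.Outer

open CfsgLib.SporRecognition.CosetCert

def aP : Fin 3510 := ⟨0, by decide⟩
def bP : Fin 3510 := ⟨1443, by decide⟩
def wA : Word := []
def wB : Word := [(.i, true), (.h, true), (.f, true), (.d, true), (.e, true), (.c, true), (.d, true), (.h, true), (.i, true), (.f, true), (.d, true), (.e, true), (.b, true), (.c, true), (.d, true), (.h, true), (.g, true), (.f, true), (.e, true), (.d, true), (.c, true), (.b, true)]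
/-- The points other than `aP` fixed by `sPerm * aP`. -/
def qAL : List Nat := [24, 25, 68, 89, 115, 197, 242, 251, 312, 378, 381, 382, 429, 477, 485, 492, 499, 604, 619, 633, 887, 897, 909, 915, 1080, 1088, 1106, 1107, 1109, 1117, 1191, 1195, 1198, 1239, 1240, 1241, 1387, 1443, 1474, 1537, 1543, 1579, 1587, 1634, 1647, 1708, 1762, 1829, 1995, 2148, 2177, 2178, 2255, 2257, 2427, 2513, 2625, 2683, 2686, 2755, 3085, 3100, 3103]
def qAW : List Word := [[(.h, true), (.f, true), (.e, true), (.d, true), (.b, true), (.c, true), (.a, true), (.b, true)],
  [(.i, true), (.h, true), (.e, true), (.d, true), (.b, true), (.c, true), (.a, true), (.b, true)],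
  [(.i, true), (.d, true), (.h, true), (.f, true), (.e, true), (.d, true), (.b, true), (.c, true), (.a, true), (.b, true)],
  [(.e, true), (.d, true), (.h, true), (.g, true), (.f, true), (.e, true), (.d, true), (.b, true), (.c, true), (.a, true), (.b, true)],
  [(.h, true), (.i, true), (.d, true), (.h, true), (.g, true), (.f, true), (.e, true), (.d, true), (.b, true), (.c, true), (.a, true), (.b, true)],
  [(.h, true), (.i, true), (.e, true), (.b, true), (.c, true), (.d, true), (.h, true), (.f, true), (.e, true), (.d, true), (.c, true), (.b, true)],
  [(.i, true), (.h, true), (.d, true), (.e, true), (.b, true), (.c, true), (.d, true), (.h, true), (.f, true), (.e, true), (.d, true), (.c, true), (.b, true)],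
  [(.f, true), (.e, true), (.d, true), (.h, true), (.i, true), (.b, true), (.c, true), (.d, true), (.h, true), (.e, true), (.d, true), (.c, true), (.b, true)],
  [(.e, true), (.d, true), (.h, true), (.i, true), (.b, true), (.c, true), (.d, true), (.h, true), (.g, true), (.f, true), (.e, true), (.d, true), (.c, true), (.b, true)],
  [(.h, true), (.e, true), (.f, true), (.d, true), (.e, true), (.b, true), (.c, true), (.d, true), (.h, true), (.g, true), (.f, true), (.e, true), (.d, true), (.c, true), (.b, true)],
  [(.h, true), (.i, true), (.f, true), (.d, true), (.e, true), (.b, true), (.c, true), (.d, true), (.h, true), (.g, true), (.f, true), (.e, true), (.d, true), (.c, true), (.b, true)],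
  [(.h, true), (.i, true), (.h, true), (.d, true), (.e, true), (.b, true), (.c, true), (.d, true), (.h, true), (.g, true), (.f, true), (.e, true), (.d, true), (.c, true), (.b, true)],
  [(.d, true), (.e, true), (.c, true), (.d, true), (.h, true), (.i, true), (.f, true), (.e, true), (.d, true), (.h, true), (.g, true), (.f, true), (.e, true), (.d, true), (.b, true), (.c, true), (.a, true), (.b, true)],
  [(.c, true), (.d, true), (.h, true), (.i, true), (.c, true), (.d, true), (.e, true), (.b, true), (.c, true), (.d, true), (.h, true), (.f, true), (.e, true), (.d, true), (.c, true), (.b, true)],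
  [(.c, true), (.d, true), (.h, true), (.i, true), (.d, true), (.e, true), (.b, true), (.c, true), (.d, true), (.h, true), (.g, true), (.f, true), (.e, true), (.d, true), (.c, true), (.b, true)],
  [(.c, true), (.d, true), (.h, true), (.i, true), (.f, true), (.e, true), (.b, true), (.c, true), (.d, true), (.h, true), (.g, true), (.f, true), (.e, true), (.d, true), (.c, true), (.b, true)],
  [(.d, true), (.e, true), (.c, true), (.d, true), (.h, true), (.i, true), (.e, true), (.b, true), (.c, true), (.d, true), (.h, true), (.f, true), (.e, true), (.d, true), (.c, true), (.b, true)],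
  [(.d, true), (.h, true), (.i, true), (.h, true), (.f, true), (.d, true), (.e, true), (.b, true), (.c, true), (.d, true), (.h, true), (.g, true), (.f, true), (.e, true), (.d, true), (.c, true), (.b, true)],
  [(.g, true), (.f, true), (.e, true), (.d, true), (.h, true), (.i, true), (.d, true), (.e, true), (.b, true), (.c, true), (.d, true), (.h, true), (.f, true), (.e, true), (.d, true), (.c, true), (.b, true)],
  [(.g, true), (.f, true), (.e, true), (.c, true), (.d, true), (.h, true), (.i, true), (.e, true), (.b, true), (.c, true), (.d, true), (.h, true), (.f, true), (.e, true), (.d, true), (.c, true), (.b, true)],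
  [(.c, true), (.d, true), (.h, true), (.i, true), (.h, true), (.e, true), (.f, true), (.d, true), (.e, true), (.b, true), (.c, true), (.d, true), (.h, true), (.g, true), (.f, true), (.e, true), (.d, true), (.c, true), (.b, true)],
  [(.d, true), (.e, true), (.c, true), (.d, true), (.h, true), (.i, true), (.f, true), (.d, true), (.e, true), (.b, true), (.c, true), (.d, true), (.h, true), (.g, true), (.f, true), (.e, true), (.d, true), (.c, true), (.b, true)],
  [(.h, true), (.d, true), (.e, true), (.c, true), (.d, true), (.h, true), (.i, true), (.d, true), (.e, true), (.b, true), (.c, true), (.d, true), (.h, true), (.g, true), (.f, true), (.e, true), (.d, true), (.c, true), (.b, true)],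
  [(.h, true), (.d, true), (.e, true), (.c, true), (.d, true), (.h, true), (.i, true), (.h, true), (.d, true), (.e, true), (.b, true), (.c, true), (.d, true), (.h, true), (.f, true), (.e, true), (.d, true), (.c, true), (.b, true)],
  [(.g, true), (.f, true), (.e, true), (.c, true), (.d, true), (.h, true), (.i, true), (.h, true), (.d, true), (.e, true), (.b, true), (.c, true), (.d, true), (.h, true), (.g, true), (.f, true), (.e, true), (.d, true), (.c, true), (.b, true)],
  [(.g, true), (.f, true), (.d, true), (.e, true), (.c, true), (.d, true), (.h, true), (.i, true), (.d, true), (.e, true), (.b, true), (.c, true), (.d, true), (.h, true), (.g, true), (.f, true), (.e, true), (.d, true), (.c, true), (.b, true)],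
  [(.e, true), (.f, true), (.d, true), (.e, true), (.c, true), (.d, true), (.h, true), (.i, true), (.f, true), (.e, true), (.b, true), (.c, true), (.d, true), (.h, true), (.g, true), (.f, true), (.e, true), (.d, true), (.c, true), (.b, true)],
  [(.g, true), (.f, true), (.d, true), (.e, true), (.c, true), (.d, true), (.h, true), (.i, true), (.f, true), (.e, true), (.b, true), (.c, true), (.d, true), (.h, true), (.g, true), (.f, true), (.e, true), (.d, true), (.c, true), (.b, true)],
  [(.i, true), (.h, true), (.d, true), (.e, true), (.c, true), (.d, true), (.h, true), (.i, true), (.f, true), (.e, true), (.b, true), (.c, true), (.d, true), (.h, true), (.g, true), (.f, true), (.e, true), (.d, true), (.c, true), (.b, true)],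
  [(.h, true), (.e, true), (.f, true), (.d, true), (.e, true), (.c, true), (.d, true), (.h, true), (.i, true), (.e, true), (.b, true), (.c, true), (.d, true), (.h, true), (.g, true), (.f, true), (.e, true), (.d, true), (.c, true), (.b, true)],
  [(.d, true), (.e, true), (.c, true), (.d, true), (.h, true), (.i, true), (.e, true), (.f, true), (.c, true), (.d, true), (.e, true), (.b, true), (.c, true), (.d, true), (.h, true), (.g, true), (.f, true), (.e, true), (.d, true), (.c, true), (.b, true)],
  [(.e, true), (.c, true), (.d, true), (.h, true), (.i, true), (.d, true), (.h, true), (.f, true), (.c, true), (.d, true), (.e, true), (.b, true), (.c, true), (.d, true), (.h, true), (.g, true), (.f, true), (.e, true), (.d, true), (.c, true), (.b, true)],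
  [(.d, true), (.e, true), (.c, true), (.d, true), (.h, true), (.i, true), (.h, true), (.f, true), (.c, true), (.d, true), (.e, true), (.b, true), (.c, true), (.d, true), (.h, true), (.g, true), (.f, true), (.e, true), (.d, true), (.c, true), (.b, true)],
  [(.f, true), (.d, true), (.e, true), (.c, true), (.d, true), (.h, true), (.i, true), (.e, true), (.f, true), (.d, true), (.e, true), (.b, true), (.c, true), (.d, true), (.h, true), (.g, true), (.f, true), (.e, true), (.d, true), (.c, true), (.b, true)],
  [(.h, true), (.d, true), (.e, true), (.c, true), (.d, true), (.h, true), (.i, true), (.e, true), (.f, true), (.d, true), (.e, true), (.b, true), (.c, true), (.d, true), (.h, true), (.g, true), (.f, true), (.e, true), (.d, true), (.c, true), (.b, true)],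
  [(.g, true), (.f, true), (.e, true), (.c, true), (.d, true), (.h, true), (.i, true), (.e, true), (.f, true), (.d, true), (.e, true), (.b, true), (.c, true), (.d, true), (.h, true), (.g, true), (.f, true), (.e, true), (.d, true), (.c, true), (.b, true)],
  [(.e, true), (.f, true), (.d, true), (.e, true), (.c, true), (.d, true), (.h, true), (.i, true), (.h, true), (.c, true), (.d, true), (.e, true), (.b, true), (.c, true), (.d, true), (.h, true), (.g, true), (.f, true), (.e, true), (.d, true), (.c, true), (.b, true)],
  [(.i, true), (.h, true), (.f, true), (.d, true), (.e, true), (.c, true), (.d, true), (.h, true), (.i, true), (.f, true), (.d, true), (.e, true), (.b, true), (.c, true), (.d, true), (.h, true), (.g, true), (.f, true), (.e, true), (.d, true), (.c, true), (.b, true)],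
  [(.d, true), (.h, true), (.e, true), (.f, true), (.d, true), (.e, true), (.c, true), (.d, true), (.h, true), (.i, true), (.f, true), (.e, true), (.b, true), (.c, true), (.d, true), (.h, true), (.g, true), (.f, true), (.e, true), (.d, true), (.c, true), (.b, true)],
  [(.e, true), (.f, true), (.d, true), (.e, true), (.c, true), (.d, true), (.h, true), (.i, true), (.e, true), (.f, true), (.c, true), (.d, true), (.e, true), (.b, true), (.c, true), (.d, true), (.h, true), (.g, true), (.f, true), (.e, true), (.d, true), (.c, true), (.b, true)],
  [(.h, true), (.d, true), (.e, true), (.c, true), (.d, true), (.h, true), (.i, true), (.d, true), (.h, true), (.f, true), (.c, true), (.d, true), (.e, true), (.b, true), (.c, true), (.d, true), (.h, true), (.g, true), (.f, true), (.e, true), (.d, true), (.c, true), (.b, true)],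
  [(.d, true), (.h, true), (.e, true), (.f, true), (.d, true), (.e, true), (.c, true), (.d, true), (.h, true), (.i, true), (.c, true), (.d, true), (.e, true), (.b, true), (.c, true), (.d, true), (.h, true), (.g, true), (.f, true), (.e, true), (.d, true), (.c, true), (.b, true)],
  [(.e, true), (.f, true), (.d, true), (.e, true), (.c, true), (.d, true), (.h, true), (.i, true), (.h, true), (.e, true), (.f, true), (.d, true), (.e, true), (.b, true), (.c, true), (.d, true), (.h, true), (.g, true), (.f, true), (.e, true), (.d, true), (.c, true), (.b, true)],
  [(.f, true), (.g, true), (.e, true), (.f, true), (.d, true), (.e, true), (.c, true), (.d, true), (.h, true), (.i, true), (.f, true), (.d, true), (.e, true), (.b, true), (.c, true), (.d, true), (.h, true), (.g, true), (.f, true), (.e, true), (.d, true), (.c, true), (.b, true)],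
  [(.c, true), (.d, true), (.h, true), (.e, true), (.f, true), (.d, true), (.e, true), (.c, true), (.d, true), (.h, true), (.i, true), (.d, true), (.e, true), (.b, true), (.c, true), (.d, true), (.h, true), (.g, true), (.f, true), (.e, true), (.d, true), (.c, true), (.b, true)],
  [(.g, true), (.f, true), (.d, true), (.e, true), (.c, true), (.d, true), (.h, true), (.i, true), (.d, true), (.e, true), (.f, true), (.c, true), (.d, true), (.e, true), (.b, true), (.c, true), (.d, true), (.h, true), (.g, true), (.f, true), (.e, true), (.d, true), (.c, true), (.b, true)],
  [(.h, true), (.g, true), (.e, true), (.f, true), (.d, true), (.e, true), (.c, true), (.d, true), (.h, true), (.i, true), (.f, true), (.c, true), (.d, true), (.e, true), (.b, true), (.c, true), (.d, true), (.h, true), (.g, true), (.f, true), (.e, true), (.d, true), (.c, true), (.b, true)],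
  [(.i, true), (.h, true), (.g, true), (.f, true), (.d, true), (.e, true), (.c, true), (.d, true), (.h, true), (.i, true), (.h, true), (.f, true), (.d, true), (.e, true), (.b, true), (.c, true), (.d, true), (.h, true), (.g, true), (.f, true), (.e, true), (.d, true), (.c, true), (.b, true)],
  [(.c, true), (.d, true), (.h, true), (.g, true), (.e, true), (.f, true), (.d, true), (.e, true), (.c, true), (.d, true), (.h, true), (.i, true), (.c, true), (.d, true), (.e, true), (.b, true), (.c, true), (.d, true), (.h, true), (.g, true), (.f, true), (.e, true), (.d, true), (.c, true), (.b, true)],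
  [(.d, true), (.h, true), (.e, true), (.f, true), (.d, true), (.e, true), (.c, true), (.d, true), (.h, true), (.i, true), (.h, true), (.e, true), (.f, true), (.c, true), (.d, true), (.e, true), (.b, true), (.c, true), (.d, true), (.h, true), (.g, true), (.f, true), (.e, true), (.d, true), (.c, true), (.b, true)],
  [(.c, true), (.d, true), (.h, true), (.e, true), (.f, true), (.d, true), (.e, true), (.c, true), (.d, true), (.h, true), (.i, true), (.e, true), (.f, true), (.c, true), (.d, true), (.e, true), (.b, true), (.c, true), (.d, true), (.h, true), (.g, true), (.f, true), (.e, true), (.d, true), (.c, true), (.b, true)],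
  [(.i, true), (.d, true), (.h, true), (.e, true), (.f, true), (.d, true), (.e, true), (.c, true), (.d, true), (.h, true), (.i, true), (.e, true), (.f, true), (.c, true), (.d, true), (.e, true), (.b, true), (.c, true), (.d, true), (.h, true), (.g, true), (.f, true), (.e, true), (.d, true), (.c, true), (.b, true)],
  [(.d, true), (.h, true), (.g, true), (.e, true), (.f, true), (.d, true), (.e, true), (.c, true), (.d, true), (.h, true), (.i, true), (.h, true), (.e, true), (.f, true), (.d, true), (.e, true), (.b, true), (.c, true), (.d, true), (.h, true), (.g, true), (.f, true), (.e, true), (.d, true), (.c, true), (.b, true)],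
  [(.c, true), (.d, true), (.h, true), (.e, true), (.f, true), (.d, true), (.e, true), (.c, true), (.d, true), (.h, true), (.i, true), (.h, true), (.e, true), (.f, true), (.d, true), (.e, true), (.b, true), (.c, true), (.d, true), (.h, true), (.g, true), (.f, true), (.e, true), (.d, true), (.c, true), (.b, true)],
  [(.i, true), (.h, true), (.f, true), (.g, true), (.e, true), (.f, true), (.d, true), (.e, true), (.c, true), (.d, true), (.h, true), (.i, true), (.e, true), (.f, true), (.c, true), (.d, true), (.e, true), (.b, true), (.c, true), (.d, true), (.h, true), (.g, true), (.f, true), (.e, true), (.d, true), (.c, true), (.b, true)],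
  [(.h, true), (.i, true), (.d, true), (.h, true), (.e, true), (.f, true), (.d, true), (.e, true), (.c, true), (.d, true), (.h, true), (.i, true), (.h, true), (.e, true), (.f, true), (.d, true), (.e, true), (.b, true), (.c, true), (.d, true), (.h, true), (.g, true), (.f, true), (.e, true), (.d, true), (.c, true), (.b, true)],
  [(.i, true), (.d, true), (.h, true), (.g, true), (.e, true), (.f, true), (.d, true), (.e, true), (.c, true), (.d, true), (.h, true), (.i, true), (.d, true), (.e, true), (.f, true), (.c, true), (.d, true), (.e, true), (.b, true), (.c, true), (.d, true), (.h, true), (.g, true), (.f, true), (.e, true), (.d, true), (.c, true), (.b, true)],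
  [(.e, true), (.d, true), (.h, true), (.f, true), (.g, true), (.e, true), (.f, true), (.d, true), (.e, true), (.c, true), (.d, true), (.h, true), (.i, true), (.e, true), (.f, true), (.c, true), (.d, true), (.e, true), (.b, true), (.c, true), (.d, true), (.h, true), (.g, true), (.f, true), (.e, true), (.d, true), (.c, true), (.b, true)],
  [(.i, true), (.c, true), (.d, true), (.h, true), (.g, true), (.e, true), (.f, true), (.d, true), (.e, true), (.c, true), (.d, true), (.h, true), (.i, true), (.e, true), (.f, true), (.c, true), (.d, true), (.e, true), (.b, true), (.c, true), (.d, true), (.h, true), (.g, true), (.f, true), (.e, true), (.d, true), (.c, true), (.b, true)],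
  [(.i, true), (.d, true), (.h, true), (.g, true), (.e, true), (.f, true), (.d, true), (.e, true), (.c, true), (.d, true), (.h, true), (.i, true), (.d, true), (.h, true), (.e, true), (.f, true), (.d, true), (.e, true), (.b, true), (.c, true), (.d, true), (.h, true), (.g, true), (.f, true), (.e, true), (.d, true), (.c, true), (.b, true)],
  [(.i, true), (.c, true), (.d, true), (.h, true), (.b, true), (.c, true), (.d, true), (.e, true), (.a, true), (.b, true), (.c, true), (.d, true), (.h, true), (.i, true), (.d, true), (.e, true), (.f, true), (.c, true), (.d, true), (.e, true), (.b, true), (.c, true), (.d, true), (.h, true), (.g, true), (.f, true), (.e, true), (.d, true), (.c, true), (.b, true)],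
  [(.h, true), (.i, true), (.c, true), (.d, true), (.h, true), (.g, true), (.e, true), (.f, true), (.d, true), (.e, true), (.c, true), (.d, true), (.h, true), (.i, true), (.d, true), (.e, true), (.f, true), (.c, true), (.d, true), (.e, true), (.b, true), (.c, true), (.d, true), (.h, true), (.g, true), (.f, true), (.e, true), (.d, true), (.c, true), (.b, true)],
  [(.d, true), (.h, true), (.i, true), (.c, true), (.d, true), (.h, true), (.e, true), (.f, true), (.d, true), (.e, true), (.c, true), (.d, true), (.h, true), (.i, true), (.d, true), (.e, true), (.f, true), (.c, true), (.d, true), (.e, true), (.b, true), (.c, true), (.d, true), (.h, true), (.g, true), (.f, true), (.e, true), (.d, true), (.c, true), (.b, true)]]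
/-- The points fixed by `sPerm * (aP * bP)`. -/
def qBL : List Nat := [0, 24, 25, 89, 115, 242, 275, 279, 281, 320, 324, 326, 361, 364, 378, 423, 457, 499, 604, 697, 800, 915, 1001, 1002, 1080, 1088, 1109, 1135, 1136, 1191, 1195, 1443, 1453, 1474, 1522, 1579, 1631, 1634, 1641, 1647, 1701, 1708, 1724, 1829, 1836, 1927, 2178, 2255, 2282, 2410, 2411, 2419, 2427, 2513, 2522, 2529, 2625, 2647, 2648, 2655, 2686, 2755, 2775, 2959, 3001, 3085, 3097, 3100, 3103, 3191, 3263, 3352]
def qBW : List Word := [[],
  [(.h, true), (.f, true), (.e, true), (.d, true), (.b, true), (.c, true), (.a, true), (.b, true)],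
  [(.i, true), (.h, true), (.e, true), (.d, true), (.b, true), (.c, true), (.a, true), (.b, true)],
  [(.e, true), (.d, true), (.h, true), (.g, true), (.f, true), (.e, true), (.d, true), (.b, true), (.c, true), (.a, true), (.b, true)],
  [(.h, true), (.i, true), (.d, true), (.h, true), (.g, true), (.f, true), (.e, true), (.d, true), (.b, true), (.c, true), (.a, true), (.b, true)],
  [(.i, true), (.h, true), (.d, true), (.e, true), (.b, true), (.c, true), (.d, true), (.h, true), (.f, true), (.e, true), (.d, true), (.c, true), (.b, true)],
  [(.i, true), (.h, true), (.f, true), (.d, true), (.e, true), (.c, true), (.d, true), (.h, true), (.g, true), (.f, true), (.e, true), (.d, true), (.c, true), (.a, true), (.b, true)],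
  [(.d, true), (.h, true), (.i, true), (.h, true), (.d, true), (.e, true), (.c, true), (.d, true), (.h, true), (.f, true), (.e, true), (.d, true), (.c, true), (.a, true), (.b, true)],
  [(.e, true), (.d, true), (.h, true), (.i, true), (.d, true), (.e, true), (.c, true), (.d, true), (.h, true), (.f, true), (.e, true), (.d, true), (.c, true), (.a, true), (.b, true)],
  [(.i, true), (.h, true), (.f, true), (.d, true), (.e, true), (.c, true), (.d, true), (.h, true), (.g, true), (.f, true), (.e, true), (.d, true), (.c, true), (.b, true)],
  [(.d, true), (.h, true), (.i, true), (.h, true), (.d, true), (.e, true), (.c, true), (.d, true), (.h, true), (.f, true), (.e, true), (.d, true), (.c, true), (.b, true)],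
  [(.e, true), (.d, true), (.h, true), (.i, true), (.d, true), (.e, true), (.c, true), (.d, true), (.h, true), (.f, true), (.e, true), (.d, true), (.c, true), (.b, true)],
  [(.e, true), (.b, true), (.c, true), (.d, true), (.h, true), (.i, true), (.e, true), (.c, true), (.d, true), (.h, true), (.f, true), (.e, true), (.d, true), (.c, true), (.a, true), (.b, true)],
  [(.g, true), (.f, true), (.e, true), (.d, true), (.h, true), (.i, true), (.c, true), (.d, true), (.h, true), (.g, true), (.f, true), (.e, true), (.d, true), (.c, true), (.a, true), (.b, true)],
  [(.h, true), (.e, true), (.f, true), (.d, true), (.e, true), (.b, true), (.c, true), (.d, true), (.h, true), (.g, true), (.f, true), (.e, true), (.d, true), (.c, true), (.b, true)],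
  [(.g, true), (.f, true), (.e, true), (.d, true), (.h, true), (.i, true), (.c, true), (.d, true), (.h, true), (.g, true), (.f, true), (.e, true), (.d, true), (.c, true), (.b, true)],
  [(.e, true), (.a, true), (.b, true), (.c, true), (.d, true), (.h, true), (.i, true), (.e, true), (.c, true), (.d, true), (.h, true), (.f, true), (.e, true), (.d, true), (.c, true), (.a, true), (.b, true)],
  [(.d, true), (.e, true), (.c, true), (.d, true), (.h, true), (.i, true), (.e, true), (.b, true), (.c, true), (.d, true), (.h, true), (.f, true), (.e, true), (.d, true), (.c, true), (.b, true)],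
  [(.d, true), (.h, true), (.i, true), (.h, true), (.f, true), (.d, true), (.e, true), (.b, true), (.c, true), (.d, true), (.h, true), (.g, true), (.f, true), (.e, true), (.d, true), (.c, true), (.b, true)],
  [(.f, true), (.e, true), (.c, true), (.d, true), (.h, true), (.i, true), (.h, true), (.d, true), (.e, true), (.c, true), (.d, true), (.h, true), (.g, true), (.f, true), (.e, true), (.d, true), (.c, true), (.a, true), (.b, true)],
  [(.f, true), (.e, true), (.c, true), (.d, true), (.h, true), (.i, true), (.h, true), (.d, true), (.e, true), (.c, true), (.d, true), (.h, true), (.g, true), (.f, true), (.e, true), (.d, true), (.c, true), (.b, true)],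
  [(.h, true), (.d, true), (.e, true), (.c, true), (.d, true), (.h, true), (.i, true), (.h, true), (.d, true), (.e, true), (.b, true), (.c, true), (.d, true), (.h, true), (.f, true), (.e, true), (.d, true), (.c, true), (.b, true)],
  [(.h, true), (.d, true), (.e, true), (.c, true), (.d, true), (.h, true), (.i, true), (.h, true), (.f, true), (.d, true), (.e, true), (.c, true), (.d, true), (.h, true), (.g, true), (.f, true), (.e, true), (.d, true), (.c, true), (.a, true), (.b, true)],
  [(.g, true), (.f, true), (.e, true), (.c, true), (.d, true), (.h, true), (.i, true), (.h, true), (.f, true), (.d, true), (.e, true), (.c, true), (.d, true), (.h, true), (.g, true), (.f, true), (.e, true), (.d, true), (.c, true), (.a, true), (.b, true)],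
  [(.g, true), (.f, true), (.e, true), (.c, true), (.d, true), (.h, true), (.i, true), (.h, true), (.d, true), (.e, true), (.b, true), (.c, true), (.d, true), (.h, true), (.g, true), (.f, true), (.e, true), (.d, true), (.c, true), (.b, true)],
  [(.g, true), (.f, true), (.d, true), (.e, true), (.c, true), (.d, true), (.h, true), (.i, true), (.d, true), (.e, true), (.b, true), (.c, true), (.d, true), (.h, true), (.g, true), (.f, true), (.e, true), (.d, true), (.c, true), (.b, true)],
  [(.i, true), (.h, true), (.d, true), (.e, true), (.c, true), (.d, true), (.h, true), (.i, true), (.f, true), (.e, true), (.b, true), (.c, true), (.d, true), (.h, true), (.g, true), (.f, true), (.e, true), (.d, true), (.c, true), (.b, true)],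
  [(.h, true), (.d, true), (.e, true), (.c, true), (.d, true), (.h, true), (.i, true), (.h, true), (.f, true), (.d, true), (.e, true), (.c, true), (.d, true), (.h, true), (.g, true), (.f, true), (.e, true), (.d, true), (.c, true), (.b, true)],
  [(.g, true), (.f, true), (.e, true), (.c, true), (.d, true), (.h, true), (.i, true), (.h, true), (.f, true), (.d, true), (.e, true), (.c, true), (.d, true), (.h, true), (.g, true), (.f, true), (.e, true), (.d, true), (.c, true), (.b, true)],
  [(.d, true), (.e, true), (.c, true), (.d, true), (.h, true), (.i, true), (.e, true), (.f, true), (.c, true), (.d, true), (.e, true), (.b, true), (.c, true), (.d, true), (.h, true), (.g, true), (.f, true), (.e, true), (.d, true), (.c, true), (.b, true)],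
  [(.e, true), (.c, true), (.d, true), (.h, true), (.i, true), (.d, true), (.h, true), (.f, true), (.c, true), (.d, true), (.e, true), (.b, true), (.c, true), (.d, true), (.h, true), (.g, true), (.f, true), (.e, true), (.d, true), (.c, true), (.b, true)],
  [(.i, true), (.h, true), (.f, true), (.d, true), (.e, true), (.c, true), (.d, true), (.h, true), (.i, true), (.f, true), (.d, true), (.e, true), (.b, true), (.c, true), (.d, true), (.h, true), (.g, true), (.f, true), (.e, true), (.d, true), (.c, true), (.b, true)],
  [(.e, true), (.f, true), (.c, true), (.d, true), (.e, true), (.b, true), (.c, true), (.d, true), (.h, true), (.i, true), (.d, true), (.e, true), (.b, true), (.c, true), (.d, true), (.h, true), (.g, true), (.f, true), (.e, true), (.d, true), (.c, true), (.b, true)],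
  [(.d, true), (.h, true), (.e, true), (.f, true), (.d, true), (.e, true), (.c, true), (.d, true), (.h, true), (.i, true), (.f, true), (.e, true), (.b, true), (.c, true), (.d, true), (.h, true), (.g, true), (.f, true), (.e, true), (.d, true), (.c, true), (.b, true)],
  [(.d, true), (.e, true), (.b, true), (.c, true), (.d, true), (.h, true), (.i, true), (.d, true), (.e, true), (.f, true), (.c, true), (.d, true), (.e, true), (.b, true), (.c, true), (.d, true), (.h, true), (.g, true), (.f, true), (.e, true), (.d, true), (.c, true), (.b, true)],
  [(.d, true), (.h, true), (.e, true), (.f, true), (.d, true), (.e, true), (.c, true), (.d, true), (.h, true), (.i, true), (.c, true), (.d, true), (.e, true), (.b, true), (.c, true), (.d, true), (.h, true), (.g, true), (.f, true), (.e, true), (.d, true), (.c, true), (.b, true)],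
  [(.h, true), (.e, true), (.f, true), (.d, true), (.e, true), (.b, true), (.c, true), (.d, true), (.h, true), (.i, true), (.f, true), (.d, true), (.e, true), (.b, true), (.c, true), (.d, true), (.h, true), (.g, true), (.f, true), (.e, true), (.d, true), (.c, true), (.b, true)],
  [(.f, true), (.g, true), (.e, true), (.f, true), (.d, true), (.e, true), (.c, true), (.d, true), (.h, true), (.i, true), (.f, true), (.d, true), (.e, true), (.b, true), (.c, true), (.d, true), (.h, true), (.g, true), (.f, true), (.e, true), (.d, true), (.c, true), (.b, true)],
  [(.g, true), (.e, true), (.f, true), (.d, true), (.e, true), (.b, true), (.c, true), (.d, true), (.h, true), (.i, true), (.h, true), (.d, true), (.e, true), (.b, true), (.c, true), (.d, true), (.h, true), (.g, true), (.f, true), (.e, true), (.d, true), (.c, true), (.b, true)],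
  [(.c, true), (.d, true), (.h, true), (.e, true), (.f, true), (.d, true), (.e, true), (.c, true), (.d, true), (.h, true), (.i, true), (.d, true), (.e, true), (.b, true), (.c, true), (.d, true), (.h, true), (.g, true), (.f, true), (.e, true), (.d, true), (.c, true), (.b, true)],
  [(.d, true), (.e, true), (.a, true), (.b, true), (.c, true), (.d, true), (.h, true), (.i, true), (.d, true), (.e, true), (.f, true), (.c, true), (.d, true), (.e, true), (.b, true), (.c, true), (.d, true), (.h, true), (.g, true), (.f, true), (.e, true), (.d, true), (.c, true), (.b, true)],
  [(.g, true), (.f, true), (.d, true), (.e, true), (.c, true), (.d, true), (.h, true), (.i, true), (.d, true), (.e, true), (.f, true), (.c, true), (.d, true), (.e, true), (.b, true), (.c, true), (.d, true), (.h, true), (.g, true), (.f, true), (.e, true), (.d, true), (.c, true), (.b, true)],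
  [(.g, true), (.f, true), (.d, true), (.e, true), (.b, true), (.c, true), (.d, true), (.h, true), (.i, true), (.e, true), (.f, true), (.c, true), (.d, true), (.e, true), (.b, true), (.c, true), (.d, true), (.h, true), (.g, true), (.f, true), (.e, true), (.d, true), (.c, true), (.b, true)],
  [(.i, true), (.h, true), (.g, true), (.f, true), (.d, true), (.e, true), (.c, true), (.d, true), (.h, true), (.i, true), (.h, true), (.f, true), (.d, true), (.e, true), (.b, true), (.c, true), (.d, true), (.h, true), (.g, true), (.f, true), (.e, true), (.d, true), (.c, true), (.b, true)],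
  [(.h, true), (.e, true), (.f, true), (.d, true), (.e, true), (.a, true), (.b, true), (.c, true), (.d, true), (.h, true), (.i, true), (.f, true), (.d, true), (.e, true), (.b, true), (.c, true), (.d, true), (.h, true), (.g, true), (.f, true), (.e, true), (.d, true), (.c, true), (.b, true)],
  [(.g, true), (.f, true), (.d, true), (.e, true), (.a, true), (.b, true), (.c, true), (.d, true), (.h, true), (.i, true), (.e, true), (.f, true), (.c, true), (.d, true), (.e, true), (.b, true), (.c, true), (.d, true), (.h, true), (.g, true), (.f, true), (.e, true), (.d, true), (.c, true), (.b, true)],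
  [(.i, true), (.d, true), (.h, true), (.e, true), (.f, true), (.d, true), (.e, true), (.c, true), (.d, true), (.h, true), (.i, true), (.e, true), (.f, true), (.c, true), (.d, true), (.e, true), (.b, true), (.c, true), (.d, true), (.h, true), (.g, true), (.f, true), (.e, true), (.d, true), (.c, true), (.b, true)],
  [(.d, true), (.h, true), (.g, true), (.e, true), (.f, true), (.d, true), (.e, true), (.c, true), (.d, true), (.h, true), (.i, true), (.h, true), (.e, true), (.f, true), (.d, true), (.e, true), (.b, true), (.c, true), (.d, true), (.h, true), (.g, true), (.f, true), (.e, true), (.d, true), (.c, true), (.b, true)],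
  [(.e, true), (.d, true), (.h, true), (.f, true), (.c, true), (.d, true), (.e, true), (.b, true), (.c, true), (.d, true), (.h, true), (.i, true), (.e, true), (.f, true), (.d, true), (.e, true), (.b, true), (.c, true), (.d, true), (.h, true), (.g, true), (.f, true), (.e, true), (.d, true), (.c, true), (.b, true)],
  [(.f, true), (.g, true), (.e, true), (.f, true), (.c, true), (.d, true), (.e, true), (.b, true), (.c, true), (.d, true), (.h, true), (.i, true), (.e, true), (.f, true), (.c, true), (.d, true), (.e, true), (.b, true), (.c, true), (.d, true), (.h, true), (.g, true), (.f, true), (.e, true), (.d, true), (.c, true), (.b, true)],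
  [(.h, true), (.g, true), (.e, true), (.f, true), (.c, true), (.d, true), (.e, true), (.b, true), (.c, true), (.d, true), (.h, true), (.i, true), (.e, true), (.f, true), (.c, true), (.d, true), (.e, true), (.b, true), (.c, true), (.d, true), (.h, true), (.g, true), (.f, true), (.e, true), (.d, true), (.c, true), (.b, true)],
  [(.i, true), (.e, true), (.d, true), (.h, true), (.c, true), (.d, true), (.e, true), (.b, true), (.c, true), (.d, true), (.h, true), (.i, true), (.e, true), (.f, true), (.c, true), (.d, true), (.e, true), (.b, true), (.c, true), (.d, true), (.h, true), (.g, true), (.f, true), (.e, true), (.d, true), (.c, true), (.b, true)],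
  [(.i, true), (.h, true), (.f, true), (.g, true), (.e, true), (.f, true), (.d, true), (.e, true), (.c, true), (.d, true), (.h, true), (.i, true), (.e, true), (.f, true), (.c, true), (.d, true), (.e, true), (.b, true), (.c, true), (.d, true), (.h, true), (.g, true), (.f, true), (.e, true), (.d, true), (.c, true), (.b, true)],
  [(.h, true), (.i, true), (.d, true), (.h, true), (.e, true), (.f, true), (.d, true), (.e, true), (.c, true), (.d, true), (.h, true), (.i, true), (.h, true), (.e, true), (.f, true), (.d, true), (.e, true), (.b, true), (.c, true), (.d, true), (.h, true), (.g, true), (.f, true), (.e, true), (.d, true), (.c, true), (.b, true)],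
  [(.e, true), (.d, true), (.h, true), (.f, true), (.c, true), (.d, true), (.e, true), (.a, true), (.b, true), (.c, true), (.d, true), (.h, true), (.i, true), (.e, true), (.f, true), (.d, true), (.e, true), (.b, true), (.c, true), (.d, true), (.h, true), (.g, true), (.f, true), (.e, true), (.d, true), (.c, true), (.b, true)],
  [(.d, true), (.h, true), (.d, true), (.e, true), (.f, true), (.c, true), (.d, true), (.e, true), (.b, true), (.c, true), (.d, true), (.h, true), (.i, true), (.e, true), (.f, true), (.d, true), (.e, true), (.b, true), (.c, true), (.d, true), (.h, true), (.g, true), (.f, true), (.e, true), (.d, true), (.c, true), (.b, true)],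
  [(.i, true), (.d, true), (.h, true), (.g, true), (.e, true), (.f, true), (.d, true), (.e, true), (.c, true), (.d, true), (.h, true), (.i, true), (.d, true), (.e, true), (.f, true), (.c, true), (.d, true), (.e, true), (.b, true), (.c, true), (.d, true), (.h, true), (.g, true), (.f, true), (.e, true), (.d, true), (.c, true), (.b, true)],
  [(.f, true), (.g, true), (.e, true), (.f, true), (.c, true), (.d, true), (.e, true), (.a, true), (.b, true), (.c, true), (.d, true), (.h, true), (.i, true), (.e, true), (.f, true), (.c, true), (.d, true), (.e, true), (.b, true), (.c, true), (.d, true), (.h, true), (.g, true), (.f, true), (.e, true), (.d, true), (.c, true), (.b, true)],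
  [(.h, true), (.g, true), (.e, true), (.f, true), (.c, true), (.d, true), (.e, true), (.a, true), (.b, true), (.c, true), (.d, true), (.h, true), (.i, true), (.e, true), (.f, true), (.c, true), (.d, true), (.e, true), (.b, true), (.c, true), (.d, true), (.h, true), (.g, true), (.f, true), (.e, true), (.d, true), (.c, true), (.b, true)],
  [(.i, true), (.e, true), (.d, true), (.h, true), (.c, true), (.d, true), (.e, true), (.a, true), (.b, true), (.c, true), (.d, true), (.h, true), (.i, true), (.e, true), (.f, true), (.c, true), (.d, true), (.e, true), (.b, true), (.c, true), (.d, true), (.h, true), (.g, true), (.f, true), (.e, true), (.d, true), (.c, true), (.b, true)],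
  [(.i, true), (.c, true), (.d, true), (.h, true), (.g, true), (.e, true), (.f, true), (.d, true), (.e, true), (.c, true), (.d, true), (.h, true), (.i, true), (.e, true), (.f, true), (.c, true), (.d, true), (.e, true), (.b, true), (.c, true), (.d, true), (.h, true), (.g, true), (.f, true), (.e, true), (.d, true), (.c, true), (.b, true)],
  [(.i, true), (.d, true), (.h, true), (.g, true), (.e, true), (.f, true), (.d, true), (.e, true), (.c, true), (.d, true), (.h, true), (.i, true), (.d, true), (.h, true), (.e, true), (.f, true), (.d, true), (.e, true), (.b, true), (.c, true), (.d, true), (.h, true), (.g, true), (.f, true), (.e, true), (.d, true), (.c, true), (.b, true)],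
  [(.d, true), (.h, true), (.d, true), (.e, true), (.f, true), (.c, true), (.d, true), (.e, true), (.a, true), (.b, true), (.c, true), (.d, true), (.h, true), (.i, true), (.e, true), (.f, true), (.d, true), (.e, true), (.b, true), (.c, true), (.d, true), (.h, true), (.g, true), (.f, true), (.e, true), (.d, true), (.c, true), (.b, true)],
  [(.i, true), (.g, true), (.f, true), (.e, true), (.d, true), (.h, true), (.c, true), (.d, true), (.e, true), (.b, true), (.c, true), (.d, true), (.h, true), (.i, true), (.h, true), (.f, true), (.c, true), (.d, true), (.e, true), (.b, true), (.c, true), (.d, true), (.h, true), (.g, true), (.f, true), (.e, true), (.d, true), (.c, true), (.b, true)],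
  [(.d, true), (.h, true), (.i, true), (.e, true), (.d, true), (.h, true), (.f, true), (.c, true), (.d, true), (.e, true), (.b, true), (.c, true), (.d, true), (.h, true), (.i, true), (.f, true), (.c, true), (.d, true), (.e, true), (.b, true), (.c, true), (.d, true), (.h, true), (.g, true), (.f, true), (.e, true), (.d, true), (.c, true), (.b, true)],
  [(.i, true), (.c, true), (.d, true), (.h, true), (.b, true), (.c, true), (.d, true), (.e, true), (.a, true), (.b, true), (.c, true), (.d, true), (.h, true), (.i, true), (.d, true), (.e, true), (.f, true), (.c, true), (.d, true), (.e, true), (.b, true), (.c, true), (.d, true), (.h, true), (.g, true), (.f, true), (.e, true), (.d, true), (.c, true), (.b, true)],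
  [(.i, true), (.b, true), (.c, true), (.d, true), (.h, true), (.e, true), (.f, true), (.d, true), (.e, true), (.b, true), (.c, true), (.d, true), (.h, true), (.i, true), (.d, true), (.e, true), (.f, true), (.c, true), (.d, true), (.e, true), (.b, true), (.c, true), (.d, true), (.h, true), (.g, true), (.f, true), (.e, true), (.d, true), (.c, true), (.b, true)],
  [(.h, true), (.i, true), (.c, true), (.d, true), (.h, true), (.g, true), (.e, true), (.f, true), (.d, true), (.e, true), (.c, true), (.d, true), (.h, true), (.i, true), (.d, true), (.e, true), (.f, true), (.c, true), (.d, true), (.e, true), (.b, true), (.c, true), (.d, true), (.h, true), (.g, true), (.f, true), (.e, true), (.d, true), (.c, true), (.b, true)],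
  [(.d, true), (.h, true), (.i, true), (.c, true), (.d, true), (.h, true), (.e, true), (.f, true), (.d, true), (.e, true), (.c, true), (.d, true), (.h, true), (.i, true), (.d, true), (.e, true), (.f, true), (.c, true), (.d, true), (.e, true), (.b, true), (.c, true), (.d, true), (.h, true), (.g, true), (.f, true), (.e, true), (.d, true), (.c, true), (.b, true)],
  [(.d, true), (.h, true), (.i, true), (.e, true), (.d, true), (.h, true), (.f, true), (.c, true), (.d, true), (.e, true), (.a, true), (.b, true), (.c, true), (.d, true), (.h, true), (.i, true), (.f, true), (.c, true), (.d, true), (.e, true), (.b, true), (.c, true), (.d, true), (.h, true), (.g, true), (.f, true), (.e, true), (.d, true), (.c, true), (.b, true)],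
  [(.i, true), (.f, true), (.e, true), (.b, true), (.c, true), (.d, true), (.h, true), (.e, true), (.f, true), (.c, true), (.d, true), (.e, true), (.b, true), (.c, true), (.d, true), (.h, true), (.i, true), (.f, true), (.d, true), (.e, true), (.b, true), (.c, true), (.d, true), (.h, true), (.g, true), (.f, true), (.e, true), (.d, true), (.c, true), (.b, true)],
  [(.i, true), (.g, true), (.f, true), (.e, true), (.d, true), (.h, true), (.g, true), (.e, true), (.f, true), (.c, true), (.d, true), (.e, true), (.b, true), (.c, true), (.d, true), (.h, true), (.i, true), (.f, true), (.c, true), (.d, true), (.e, true), (.b, true), (.c, true), (.d, true), (.h, true), (.g, true), (.f, true), (.e, true), (.d, true), (.c, true), (.b, true)]]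
theorem qAL_chk : qAL.length = 63 ∧ qAL.Nodup ∧ (∀ x ∈ qAL, x < 3510) ∧ (List.range 63).all (fun i => Nat.beq (tr (qAW.getD i []) 0) (qAL.getD i 0)) = true := by decide +kernel
theorem qBL_chk : qBL.length = 72 ∧ qBL.Nodup ∧ (∀ x ∈ qBL, x < 3510) ∧ (List.range 72).all (fun i => Nat.beq (tr (qBW.getD i []) 0) (qBL.getD i 0)) = true := by decide +kernel
theorem wAB_chk : tr wA 0 = aP ∧ tr wB 0 = bP := by decide +kernel

def qA (i : Fin 63) : Fin 3510 := ⟨qAL.getD i 0, by
  rw [List.getD_eq_getElem _ _ (by rw [qAL_chk.1]; exact i.2)]
  exact qAL_chk.2.2.1 _ (List.getElem_mem _)⟩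

def qB (i : Fin 72) : Fin 3510 := ⟨qBL.getD i 0, by
  rw [List.getD_eq_getElem _ _ (by rw [qBL_chk.1]; exact i.2)]
  exact qBL_chk.2.2.1 _ (List.getElem_mem _)⟩

theorem qA_injective : Function.Injective qA := fun i j h => by
  have h' := congrArg Fin.val h
  simp only [qA] at h'
  rw [List.getD_eq_getElem _ _ (by rw [qAL_chk.1]; exact i.2), List.getD_eq_getElem _ _ (by rw [qAL_chk.1]; exact j.2)] at h'
  exact Fin.ext ((List.Nodup.getElem_inj_iff qAL_chk.2.1).1 h')

theorem qB_injective : Function.Injective qB := fun i j h => by
  have h' := congrArg Fin.val h
  simp only [qB] at h'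
  rw [List.getD_eq_getElem _ _ (by rw [qBL_chk.1]; exact i.2), List.getD_eq_getElem _ _ (by rw [qBL_chk.1]; exact j.2)] at h'
  exact Fin.ext ((List.Nodup.getElem_inj_iff qBL_chk.2.1).1 h')

variable {G : Type*} [Group G] {D : Set G} (M : Model G D)

theorem tau_aP : M.tau aP = M.ev (memWord wA) := M.tau_word _ _ wAB_chk.1

theorem tau_bP : M.tau bP = M.ev (memWord wB) := M.tau_word _ _ wAB_chk.2

theorem tau_qA (i : Fin 63) : M.tau (qA i) = M.ev (memWord (qAW.getD i [])) :=
  M.tau_word _ _ (Nat.eq_of_beq_eq_true (List.all_eq_true.1 qAL_chk.2.2.2 i (List.mem_range.2 i.2)))

theorem tau_qB (i : Fin 72) : M.tau (qB i) = M.ev (memWord (qBW.getD i [])) :=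
  M.tau_word _ _ (Nat.eq_of_beq_eq_true (List.all_eq_true.1 qBL_chk.2.2.2 i (List.mem_range.2 i.2)))

/-- The second outer involution. -/
noncomputable def saPerm : Equiv.Perm (Fin 3510) := sPerm * M.act (M.tau aP)

/-- The third outer involution. -/
noncomputable def sabPerm : Equiv.Perm (Fin 3510) := sPerm * M.act (M.tau aP * M.tau bP)

/-- The subgroup generated by the members at the 63 points. -/
noncomputable def subKa : Subgroup G := Subgroup.closure (Set.range fun i => M.tau (qA i))

/-- The subgroup generated by the members at the 72 points. -/
noncomputable def subKb : Subgroup G := Subgroup.closure (Set.range fun i => M.tau (qB i))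

end CfsgLib.SporRecognition.F22Model.Outer
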